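import Cfsg.Agent.Lib.Comp.Fi22.Perm

set_option maxRecDepth 100000

namespace Cfsg.Lib.Comp.Fi22

universe u

noncomputable def U_R : List (List ℕ × ℕ) := (apd [([1],1),
 ([2],1),
 ([3],1),
 ([4],1),
 ([5],1),
 ([6],1),
 ([7],1),
 ([8],1),
 ([9],1),
 ([1,2],2),
 ([1,3],1),
 ([1,4],1),
 ([1,5],1),
 ([1,6],1),
 ([1,7],1),
 ([1,8],1),
 ([1,9],1),
 ([2,3],2),
 ([2,4],1),
 ([2,5],1),
 ([2,6],1),
 ([2,7],1),
 ([2,8],1),
 ([2,9],1),
 ([3,4],2),
 ([3,5],1),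
 ([3,6],1),
 ([3,7],1),
 ([3,8],1),
 ([3,9],1),
 ([4,5],2),
 ([4,6],1),
 ([4,7],1),
 ([4,8],2),
 ([4,9],1),
 ([5,6],2),
 ([5,7],1),
 ([5,8],1),
 ([5,9],1),
 ([6,7],2)]
 [([6,8],1),
 ([6,9],1),
 ([7,8],1),
 ([7,9],1),
 ([8,9],2),
 ([4,3,2,4,5,6,4,8,9],9),
 ([1,2,3,4,5,6,8],8),
 ([2,3,4,5,6,7,8],8)])

theorem nets_rel_U : Rels (gp nets) U_R := nets_rel.mono (by decide +kernel)

theorem U_fin : finB 4096 nets [1,2,3,4,5,6,7,8,9] 3510 (runH 4096 nets (fun x p => ptInv (nth Net.nil nets x) p) iv U_R [] [[1],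
 [3],
 [4],
 [5],
 [6],
 [7],
 [8],
 [9],
 [1,2,3,4,5,8,1,2,3,4,5,8,1,2,3,4,5,8,1,2,3,4,5,8,1,2,3,4,5,8]] 0 []
  (apd [1,5,9,13,17,21,25,29,0,4,8,12,16,20,24,28,32,36,40,44,48,52,56,60,64,68,72,76,80,84,88,92,96,100,104,108,112,116,120,124,128,132,136,140,144,148,152,156,160,164,168,172,176,36,40,44,48,52,56,60]
 (apd [64,68,72,76,80,84,88,92,96,100,104,108,112,116,120,124,128,132,136,140,144,148,152,156,160,164,168,172,176,33,40,44,48,52,56,60,64,68,72,76,80,84,88,92,96,100,104,108,112,116,120,124,128,132,136,140,144,148,152,156]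
 (apd [160,164,168,172,176,40,44,60,64,68,72,76,80,84,88,92,96,100,104,108,112,116,120,124,128,132,136,140,144,148,152,156,160,164,168,172,176,36,40,44,48,52,56,60,64,68,72,76,80,84,88,92,96,100,104,108,112,116,120,124]
 (apd [128,132,136,140,144,148,152,156,160,164,168,172,176,40,44,48,52,56,60,64,68,72,76,80,84,88,92,96,100,104,108,112,116,120,124,128,132,136,148,152,176,40,44,48,52,60,44,188,92,116,136,152,164,172,176,88,112,132,136,148]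
 (apd [152,160,164,168,172,72,76,80,84,96,112,116,120,132,136,140,148,152,156,160,164,168,172,176,88,92,112,116,120,124,128,132,140,144,148,160,168,120,124,128,180,4,36,40,44,48,52,56,60,64,72,76,80,84,88,140,144,156,44,52]
 (apd [60,72,80,96,104,124,140,144,148,36,48,76,100,120,124,128,132,136,148,152,160,164,168,172,44,60,64,72,76,80,40,44,48,52,56,60,96,100,104,108,112,120,124,128,132,148,44,48,72,88,184,28,60,88,112,132,148,160,168,176]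
 (apd [60,88,112,132,136,148,160,96,100,104,108,112,96,188,4,8,12,16,36,40,44,48,52,56,64,68,72,76,80,84,88,92,100,104,116,136,36,44,48,52,56,60,64,68,72,76,88,92,36,44,48,68,72,76,80,96,100,104,108,120]
 [124,128,132,140,144,156,40,44,48,52,68,96])))))))
  (defsH 4096 nets (ones 40960) [2,3,4,5,6,7,8,9,1,2,3,4,5,6,8,3,4,5,6,7,8,9,2,3,4,5,6,7,8,9,2,3,4,5,6,7,8,9,1,2,3,4,5] (Nat.shiftLeft 1 0) 0)) = true := by decide +kernel

theorem U_idx : Idx.{u} iv (U_R ++ []) [[1],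
 [3],
 [4],
 [5],
 [6],
 [7],
 [8],
 [9],
 [1,2,3,4,5,8,1,2,3,4,5,8,1,2,3,4,5,8,1,2,3,4,5,8,1,2,3,4,5,8]] [1,2,3,4,5,6,7,8,9] 3510 :=
  Reach.idx nets_ok (reach_runH nets_ok (fun x p _ => ptInv_gp nets_ok x p) nets_rel_U (reach_defsH nets_ok _ _ _ _ _ _) _ _) U_fin (by norm_num)

end Cfsg.Lib.Comp.Fi22
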