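import Cfsg.Agent.Lib.Comp.Fi22.Cv31

set_option maxRecDepth 100000
set_option Elab.async false

namespace Cfsg.Lib.Comp.Fi22

universe u

theorem Cv3n_r0_0 : eqB 196608 18 0 18 Cv3n [1] 1 [] = true := by decide +kernel

theorem Cv3n_r1_0 : eqB 196608 18 0 18 Cv3n [2] 1 [] = true := by decide +kernel

theorem Cv3n_r2_0 : eqB 196608 18 0 18 Cv3n [3] 1 [] = true := by decide +kernel

theorem Cv3n_r3_0 : eqB 196608 18 0 18 Cv3n [4] 1 [] = true := by decide +kernel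

theorem Cv3n_r4_0 : eqB 196608 18 0 18 Cv3n [5] 1 [] = true := by decide +kernel

theorem Cv3n_r5_0 : eqB 196608 18 0 18 Cv3n [6] 1 [] = true := by decide +kernel

theorem Cv3n_r6_0 : eqB 196608 18 0 18 Cv3n [7] 1 [] = true := by decide +kernel

theorem Cv3n_r7_0 : eqB 196608 18 0 18 Cv3n [8] 1 [] = true := by decide +kernel

theorem Cv3n_r8_0 : eqB 196608 18 0 18 Cv3n [9] 1 [] = true := by decide +kernel

theorem Cv3n_r9_0 : eqB 196608 18 0 18 Cv3n [1,2] 2 [] = true := by decide +kernel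

theorem Cv3n_r10_0 : eqB 196608 18 0 18 Cv3n [1,3] 1 [] = true := by decide +kernel

theorem Cv3n_r11_0 : eqB 196608 18 0 18 Cv3n [1,4] 1 [] = true := by decide +kernel

theorem Cv3n_r12_0 : eqB 196608 18 0 18 Cv3n [1,5] 1 [] = true := by decide +kernel

theorem Cv3n_r13_0 : eqB 196608 18 0 18 Cv3n [1,6] 1 [] = true := by decide +kernel

theorem Cv3n_r14_0 : eqB 196608 18 0 18 Cv3n [1,7] 1 [] = true := by decide +kernel

theorem Cv3n_r15_0 : eqB 196608 18 0 18 Cv3n [1,8] 1 [] = true := by decide +kernel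

theorem Cv3n_r16_0 : eqB 196608 18 0 18 Cv3n [1,9] 1 [] = true := by decide +kernel

theorem Cv3n_r17_0 : eqB 196608 18 0 18 Cv3n [2,3] 2 [] = true := by decide +kernel

theorem Cv3n_r18_0 : eqB 196608 18 0 18 Cv3n [2,4] 1 [] = true := by decide +kernel

theorem Cv3n_r19_0 : eqB 196608 18 0 18 Cv3n [2,5] 1 [] = true := by decide +kernel

theorem Cv3n_r20_0 : eqB 196608 18 0 18 Cv3n [2,6] 1 [] = true := by decide +kernel

theorem Cv3n_r21_0 : eqB 196608 18 0 18 Cv3n [2,7] 1 [] = true := by decide +kernel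

theorem Cv3n_r22_0 : eqB 196608 18 0 18 Cv3n [2,8] 1 [] = true := by decide +kernel

theorem Cv3n_r23_0 : eqB 196608 18 0 18 Cv3n [2,9] 1 [] = true := by decide +kernel

theorem Cv3n_r24_0 : eqB 196608 18 0 18 Cv3n [3,4] 2 [] = true := by decide +kernel

theorem Cv3n_r25_0 : eqB 196608 18 0 18 Cv3n [3,5] 1 [] = true := by decide +kernel

theorem Cv3n_r26_0 : eqB 196608 18 0 18 Cv3n [3,6] 1 [] = true := by decide +kernel

theorem Cv3n_r27_0 : eqB 196608 18 0 18 Cv3n [3,7] 1 [] = true := by decide +kernel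

theorem Cv3n_r28_0 : eqB 196608 18 0 18 Cv3n [3,8] 1 [] = true := by decide +kernel

theorem Cv3n_r29_0 : eqB 196608 18 0 18 Cv3n [3,9] 1 [] = true := by decide +kernel

theorem Cv3n_r30_0 : eqB 196608 18 0 18 Cv3n [4,5] 2 [] = true := by decide +kernel

theorem Cv3n_r31_0 : eqB 196608 18 0 18 Cv3n [4,6] 1 [] = true := by decide +kernel

theorem Cv3n_r32_0 : eqB 196608 18 0 18 Cv3n [4,7] 1 [] = true := by decide +kernel

theorem Cv3n_r33_0 : eqB 196608 18 0 18 Cv3n [4,8] 2 [] = true := by decide +kernel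

theorem Cv3n_r34_0 : eqB 196608 18 0 18 Cv3n [4,9] 1 [] = true := by decide +kernel

theorem Cv3n_r35_0 : eqB 196608 18 0 18 Cv3n [5,6] 2 [] = true := by decide +kernel

theorem Cv3n_r36_0 : eqB 196608 18 0 18 Cv3n [5,7] 1 [] = true := by decide +kernel

theorem Cv3n_r37_0 : eqB 196608 18 0 18 Cv3n [5,8] 1 [] = true := by decide +kernel

theorem Cv3n_r38_0 : eqB 196608 18 0 18 Cv3n [5,9] 1 [] = true := by decide +kernel

theorem Cv3n_r39_0 : eqB 196608 18 0 18 Cv3n [6,7] 2 [] = true := by decide +kernel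

theorem Cv3n_r40_0 : eqB 196608 18 0 18 Cv3n [6,8] 1 [] = true := by decide +kernel

theorem Cv3n_r41_0 : eqB 196608 18 0 18 Cv3n [6,9] 1 [] = true := by decide +kernel

theorem Cv3n_r42_0 : eqB 196608 18 0 18 Cv3n [7,8] 1 [] = true := by decide +kernel

theorem Cv3n_r43_0 : eqB 196608 18 0 18 Cv3n [7,9] 1 [] = true := by decide +kernel

theorem Cv3n_r44_0 : eqB 196608 18 0 18 Cv3n [8,9] 2 [] = true := by decide +kernel

theorem Cv3n_r45_0 : eqB 196608 18 0 4 Cv3n (apd [4,3,2,4,5,6,4,8,9,4,3,2,4,5,6,4,8,9,4,3,2,4,5,6,4,8,9,4,3,2,4,5,6,4,8,9,4,3,2,4,5,6,4,8,9,4,3,2,4,5,6,4,8,9,4,3,2,4,5,6]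
 [4,8,9,4,3,2,4,5,6,4,8,9,4,3,2,4,5,6,4,8,9,4,3,2,4,5,6,4,8,9,10,10]) 0 [] = true := by decide +kernel

theorem Cv3n_r45_4 : eqB 196608 18 4 4 Cv3n (apd [4,3,2,4,5,6,4,8,9,4,3,2,4,5,6,4,8,9,4,3,2,4,5,6,4,8,9,4,3,2,4,5,6,4,8,9,4,3,2,4,5,6,4,8,9,4,3,2,4,5,6,4,8,9,4,3,2,4,5,6]
 [4,8,9,4,3,2,4,5,6,4,8,9,4,3,2,4,5,6,4,8,9,4,3,2,4,5,6,4,8,9,10,10]) 0 [] = true := by decide +kernel

theorem Cv3n_r45_8 : eqB 196608 18 8 4 Cv3n (apd [4,3,2,4,5,6,4,8,9,4,3,2,4,5,6,4,8,9,4,3,2,4,5,6,4,8,9,4,3,2,4,5,6,4,8,9,4,3,2,4,5,6,4,8,9,4,3,2,4,5,6,4,8,9,4,3,2,4,5,6]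
 [4,8,9,4,3,2,4,5,6,4,8,9,4,3,2,4,5,6,4,8,9,4,3,2,4,5,6,4,8,9,10,10]) 0 [] = true := by decide +kernel

theorem Cv3n_r45_12 : eqB 196608 18 12 4 Cv3n (apd [4,3,2,4,5,6,4,8,9,4,3,2,4,5,6,4,8,9,4,3,2,4,5,6,4,8,9,4,3,2,4,5,6,4,8,9,4,3,2,4,5,6,4,8,9,4,3,2,4,5,6,4,8,9,4,3,2,4,5,6]
 [4,8,9,4,3,2,4,5,6,4,8,9,4,3,2,4,5,6,4,8,9,4,3,2,4,5,6,4,8,9,10,10]) 0 [] = true := by decide +kernel

theorem Cv3n_r45_16 : eqB 196608 18 16 2 Cv3n (apd [4,3,2,4,5,6,4,8,9,4,3,2,4,5,6,4,8,9,4,3,2,4,5,6,4,8,9,4,3,2,4,5,6,4,8,9,4,3,2,4,5,6,4,8,9,4,3,2,4,5,6,4,8,9,4,3,2,4,5,6]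
 [4,8,9,4,3,2,4,5,6,4,8,9,4,3,2,4,5,6,4,8,9,4,3,2,4,5,6,4,8,9,10,10]) 0 [] = true := by decide +kernel

theorem Cv3n_r46_0 : eqB 196608 18 0 5 Cv3n [1,2,3,4,5,6,8] 8 [] = true := by decide +kernel

theorem Cv3n_r46_5 : eqB 196608 18 5 5 Cv3n [1,2,3,4,5,6,8] 8 [] = true := by decide +kernel

theorem Cv3n_r46_10 : eqB 196608 18 10 5 Cv3n [1,2,3,4,5,6,8] 8 [] = true := by decide +kernel

theorem Cv3n_r46_15 : eqB 196608 18 15 3 Cv3n [1,2,3,4,5,6,8] 8 [] = true := by decide +kernel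

theorem Cv3n_r47_0 : eqB 196608 18 0 5 Cv3n [2,3,4,5,6,7,8] 8 [] = true := by decide +kernel

theorem Cv3n_r47_5 : eqB 196608 18 5 5 Cv3n [2,3,4,5,6,7,8] 8 [] = true := by decide +kernel

theorem Cv3n_r47_10 : eqB 196608 18 10 5 Cv3n [2,3,4,5,6,7,8] 8 [] = true := by decide +kernel

theorem Cv3n_r47_15 : eqB 196608 18 15 3 Cv3n [2,3,4,5,6,7,8] 8 [] = true := by decide +kernel

theorem Cv3n_r48_0 : eqB 196608 18 0 18 Cv3n [10] 2 [] = true := by decide +kernel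

theorem Cv3n_rel : Rels (gp Cv3n) Cv3R := by
  unfold Cv3R
  try simp only [apd_eq]
  intro r hr
  simp only [List.mem_append, List.mem_cons, List.not_mem_nil, or_false, or_assoc] at hr
  rcases hr with rfl | rfl | rfl | rfl | rfl | rfl | rfl | rfl | rfl | rfl | rfl | rfl | rfl | rfl | rfl | rfl | rfl | rfl | rfl | rfl | rfl | rfl | rfl | rfl | rfl | rfl | rfl | rfl | rfl | rfl | rfl | rfl | rfl | rfl | rfl | rfl | rfl | rfl | rfl | rfl | rfl | rfl | rfl | rfl | rfl | rfl | rfl | rfl | rfl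
  · exact AgreeBits.eq (k := 18) (agree_of_eqB Cv3n_ok (by norm_num) Cv3n_r0_0) (by norm_num) ((fx_ev Cv3n_ok.fx _).pow _) (Fx.one _)
  · exact AgreeBits.eq (k := 18) (agree_of_eqB Cv3n_ok (by norm_num) Cv3n_r1_0) (by norm_num) ((fx_ev Cv3n_ok.fx _).pow _) (Fx.one _)
  · exact AgreeBits.eq (k := 18) (agree_of_eqB Cv3n_ok (by norm_num) Cv3n_r2_0) (by norm_num) ((fx_ev Cv3n_ok.fx _).pow _) (Fx.one _)
  · exact AgreeBits.eq (k := 18) (agree_of_eqB Cv3n_ok (by norm_num) Cv3n_r3_0) (by norm_num) ((fx_ev Cv3n_ok.fx _).pow _) (Fx.one _)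
  · exact AgreeBits.eq (k := 18) (agree_of_eqB Cv3n_ok (by norm_num) Cv3n_r4_0) (by norm_num) ((fx_ev Cv3n_ok.fx _).pow _) (Fx.one _)
  · exact AgreeBits.eq (k := 18) (agree_of_eqB Cv3n_ok (by norm_num) Cv3n_r5_0) (by norm_num) ((fx_ev Cv3n_ok.fx _).pow _) (Fx.one _)
  · exact AgreeBits.eq (k := 18) (agree_of_eqB Cv3n_ok (by norm_num) Cv3n_r6_0) (by norm_num) ((fx_ev Cv3n_ok.fx _).pow _) (Fx.one _)
  · exact AgreeBits.eq (k := 18) (agree_of_eqB Cv3n_ok (by norm_num) Cv3n_r7_0) (by norm_num) ((fx_ev Cv3n_ok.fx _).pow _) (Fx.one _)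
  · exact AgreeBits.eq (k := 18) (agree_of_eqB Cv3n_ok (by norm_num) Cv3n_r8_0) (by norm_num) ((fx_ev Cv3n_ok.fx _).pow _) (Fx.one _)
  · exact AgreeBits.eq (k := 18) (agree_of_eqB Cv3n_ok (by norm_num) Cv3n_r9_0) (by norm_num) ((fx_ev Cv3n_ok.fx _).pow _) (Fx.one _)
  · exact AgreeBits.eq (k := 18) (agree_of_eqB Cv3n_ok (by norm_num) Cv3n_r10_0) (by norm_num) ((fx_ev Cv3n_ok.fx _).pow _) (Fx.one _)
  · exact AgreeBits.eq (k := 18) (agree_of_eqB Cv3n_ok (by norm_num) Cv3n_r11_0) (by norm_num) ((fx_ev Cv3n_ok.fx _).pow _) (Fx.one _)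
  · exact AgreeBits.eq (k := 18) (agree_of_eqB Cv3n_ok (by norm_num) Cv3n_r12_0) (by norm_num) ((fx_ev Cv3n_ok.fx _).pow _) (Fx.one _)
  · exact AgreeBits.eq (k := 18) (agree_of_eqB Cv3n_ok (by norm_num) Cv3n_r13_0) (by norm_num) ((fx_ev Cv3n_ok.fx _).pow _) (Fx.one _)
  · exact AgreeBits.eq (k := 18) (agree_of_eqB Cv3n_ok (by norm_num) Cv3n_r14_0) (by norm_num) ((fx_ev Cv3n_ok.fx _).pow _) (Fx.one _)
  · exact AgreeBits.eq (k := 18) (agree_of_eqB Cv3n_ok (by norm_num) Cv3n_r15_0) (by norm_num) ((fx_ev Cv3n_ok.fx _).pow _) (Fx.one _)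
  · exact AgreeBits.eq (k := 18) (agree_of_eqB Cv3n_ok (by norm_num) Cv3n_r16_0) (by norm_num) ((fx_ev Cv3n_ok.fx _).pow _) (Fx.one _)
  · exact AgreeBits.eq (k := 18) (agree_of_eqB Cv3n_ok (by norm_num) Cv3n_r17_0) (by norm_num) ((fx_ev Cv3n_ok.fx _).pow _) (Fx.one _)
  · exact AgreeBits.eq (k := 18) (agree_of_eqB Cv3n_ok (by norm_num) Cv3n_r18_0) (by norm_num) ((fx_ev Cv3n_ok.fx _).pow _) (Fx.one _)
  · exact AgreeBits.eq (k := 18) (agree_of_eqB Cv3n_ok (by norm_num) Cv3n_r19_0) (by norm_num) ((fx_ev Cv3n_ok.fx _).pow _) (Fx.one _)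
  · exact AgreeBits.eq (k := 18) (agree_of_eqB Cv3n_ok (by norm_num) Cv3n_r20_0) (by norm_num) ((fx_ev Cv3n_ok.fx _).pow _) (Fx.one _)
  · exact AgreeBits.eq (k := 18) (agree_of_eqB Cv3n_ok (by norm_num) Cv3n_r21_0) (by norm_num) ((fx_ev Cv3n_ok.fx _).pow _) (Fx.one _)
  · exact AgreeBits.eq (k := 18) (agree_of_eqB Cv3n_ok (by norm_num) Cv3n_r22_0) (by norm_num) ((fx_ev Cv3n_ok.fx _).pow _) (Fx.one _)
  · exact AgreeBits.eq (k := 18) (agree_of_eqB Cv3n_ok (by norm_num) Cv3n_r23_0) (by norm_num) ((fx_ev Cv3n_ok.fx _).pow _) (Fx.one _)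
  · exact AgreeBits.eq (k := 18) (agree_of_eqB Cv3n_ok (by norm_num) Cv3n_r24_0) (by norm_num) ((fx_ev Cv3n_ok.fx _).pow _) (Fx.one _)
  · exact AgreeBits.eq (k := 18) (agree_of_eqB Cv3n_ok (by norm_num) Cv3n_r25_0) (by norm_num) ((fx_ev Cv3n_ok.fx _).pow _) (Fx.one _)
  · exact AgreeBits.eq (k := 18) (agree_of_eqB Cv3n_ok (by norm_num) Cv3n_r26_0) (by norm_num) ((fx_ev Cv3n_ok.fx _).pow _) (Fx.one _)
  · exact AgreeBits.eq (k := 18) (agree_of_eqB Cv3n_ok (by norm_num) Cv3n_r27_0) (by norm_num) ((fx_ev Cv3n_ok.fx _).pow _) (Fx.one _)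
  · exact AgreeBits.eq (k := 18) (agree_of_eqB Cv3n_ok (by norm_num) Cv3n_r28_0) (by norm_num) ((fx_ev Cv3n_ok.fx _).pow _) (Fx.one _)
  · exact AgreeBits.eq (k := 18) (agree_of_eqB Cv3n_ok (by norm_num) Cv3n_r29_0) (by norm_num) ((fx_ev Cv3n_ok.fx _).pow _) (Fx.one _)
  · exact AgreeBits.eq (k := 18) (agree_of_eqB Cv3n_ok (by norm_num) Cv3n_r30_0) (by norm_num) ((fx_ev Cv3n_ok.fx _).pow _) (Fx.one _)
  · exact AgreeBits.eq (k := 18) (agree_of_eqB Cv3n_ok (by norm_num) Cv3n_r31_0) (by norm_num) ((fx_ev Cv3n_ok.fx _).pow _) (Fx.one _)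
  · exact AgreeBits.eq (k := 18) (agree_of_eqB Cv3n_ok (by norm_num) Cv3n_r32_0) (by norm_num) ((fx_ev Cv3n_ok.fx _).pow _) (Fx.one _)
  · exact AgreeBits.eq (k := 18) (agree_of_eqB Cv3n_ok (by norm_num) Cv3n_r33_0) (by norm_num) ((fx_ev Cv3n_ok.fx _).pow _) (Fx.one _)
  · exact AgreeBits.eq (k := 18) (agree_of_eqB Cv3n_ok (by norm_num) Cv3n_r34_0) (by norm_num) ((fx_ev Cv3n_ok.fx _).pow _) (Fx.one _)
  · exact AgreeBits.eq (k := 18) (agree_of_eqB Cv3n_ok (by norm_num) Cv3n_r35_0) (by norm_num) ((fx_ev Cv3n_ok.fx _).pow _) (Fx.one _)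
  · exact AgreeBits.eq (k := 18) (agree_of_eqB Cv3n_ok (by norm_num) Cv3n_r36_0) (by norm_num) ((fx_ev Cv3n_ok.fx _).pow _) (Fx.one _)
  · exact AgreeBits.eq (k := 18) (agree_of_eqB Cv3n_ok (by norm_num) Cv3n_r37_0) (by norm_num) ((fx_ev Cv3n_ok.fx _).pow _) (Fx.one _)
  · exact AgreeBits.eq (k := 18) (agree_of_eqB Cv3n_ok (by norm_num) Cv3n_r38_0) (by norm_num) ((fx_ev Cv3n_ok.fx _).pow _) (Fx.one _)
  · exact AgreeBits.eq (k := 18) (agree_of_eqB Cv3n_ok (by norm_num) Cv3n_r39_0) (by norm_num) ((fx_ev Cv3n_ok.fx _).pow _) (Fx.one _)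
  · exact AgreeBits.eq (k := 18) (agree_of_eqB Cv3n_ok (by norm_num) Cv3n_r40_0) (by norm_num) ((fx_ev Cv3n_ok.fx _).pow _) (Fx.one _)
  · exact AgreeBits.eq (k := 18) (agree_of_eqB Cv3n_ok (by norm_num) Cv3n_r41_0) (by norm_num) ((fx_ev Cv3n_ok.fx _).pow _) (Fx.one _)
  · exact AgreeBits.eq (k := 18) (agree_of_eqB Cv3n_ok (by norm_num) Cv3n_r42_0) (by norm_num) ((fx_ev Cv3n_ok.fx _).pow _) (Fx.one _)
  · exact AgreeBits.eq (k := 18) (agree_of_eqB Cv3n_ok (by norm_num) Cv3n_r43_0) (by norm_num) ((fx_ev Cv3n_ok.fx _).pow _) (Fx.one _)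
  · exact AgreeBits.eq (k := 18) (agree_of_eqB Cv3n_ok (by norm_num) Cv3n_r44_0) (by norm_num) ((fx_ev Cv3n_ok.fx _).pow _) (Fx.one _)
  · exact AgreeBits.eq (k := 18) (AgreeBits.trans (AgreeBits.trans (AgreeBits.trans (AgreeBits.trans (agree_of_eqB Cv3n_ok (by norm_num) Cv3n_r45_0) (agree_of_eqB Cv3n_ok (by norm_num) Cv3n_r45_4)) (agree_of_eqB Cv3n_ok (by norm_num) Cv3n_r45_8)) (agree_of_eqB Cv3n_ok (by norm_num) Cv3n_r45_12)) (agree_of_eqB Cv3n_ok (by norm_num) Cv3n_r45_16)) (by norm_num) ((fx_ev Cv3n_ok.fx _).pow _) (Fx.one _)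
  · exact AgreeBits.eq (k := 18) (AgreeBits.trans (AgreeBits.trans (AgreeBits.trans (agree_of_eqB Cv3n_ok (by norm_num) Cv3n_r46_0) (agree_of_eqB Cv3n_ok (by norm_num) Cv3n_r46_5)) (agree_of_eqB Cv3n_ok (by norm_num) Cv3n_r46_10)) (agree_of_eqB Cv3n_ok (by norm_num) Cv3n_r46_15)) (by norm_num) ((fx_ev Cv3n_ok.fx _).pow _) (Fx.one _)
  · exact AgreeBits.eq (k := 18) (AgreeBits.trans (AgreeBits.trans (AgreeBits.trans (agree_of_eqB Cv3n_ok (by norm_num) Cv3n_r47_0) (agree_of_eqB Cv3n_ok (by norm_num) Cv3n_r47_5)) (agree_of_eqB Cv3n_ok (by norm_num) Cv3n_r47_10)) (agree_of_eqB Cv3n_ok (by norm_num) Cv3n_r47_15)) (by norm_num) ((fx_ev Cv3n_ok.fx _).pow _) (Fx.one _)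
  · exact AgreeBits.eq (k := 18) (agree_of_eqB Cv3n_ok (by norm_num) Cv3n_r48_0) (by norm_num) ((fx_ev Cv3n_ok.fx _).pow _) (Fx.one _)

end Cfsg.Lib.Comp.Fi22
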