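import Cfsg.Agent.Lib.Comp.Fi22.Cv32

set_option maxRecDepth 100000
set_option Elab.async false

namespace Cfsg.Lib.Comp.Fi22

universe u

theorem Cv3_z1 : ev (gp Cv3n) [1,10] ^ (0 + 1) = ev (gp Cv3n) [10,1] :=
  eq_of_eqB (k := 18) Cv3n_ok (by norm_num) (by decide +kernel)

theorem Cv3_z2 : ev (gp Cv3n) [2,10] ^ (0 + 1) = ev (gp Cv3n) [10,2] :=
  eq_of_eqB (k := 18) Cv3n_ok (by norm_num) (by decide +kernel)

theorem Cv3_z3 : ev (gp Cv3n) [3,10] ^ (0 + 1) = ev (gp Cv3n) [10,3] :=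
  eq_of_eqB (k := 18) Cv3n_ok (by norm_num) (by decide +kernel)

theorem Cv3_z4 : ev (gp Cv3n) [4,10] ^ (0 + 1) = ev (gp Cv3n) [10,4] :=
  eq_of_eqB (k := 18) Cv3n_ok (by norm_num) (by decide +kernel)

theorem Cv3_z5 : ev (gp Cv3n) [5,10] ^ (0 + 1) = ev (gp Cv3n) [10,5] :=
  eq_of_eqB (k := 18) Cv3n_ok (by norm_num) (by decide +kernel)

theorem Cv3_z6 : ev (gp Cv3n) [6,10] ^ (0 + 1) = ev (gp Cv3n) [10,6] :=
  eq_of_eqB (k := 18) Cv3n_ok (by norm_num) (by decide +kernel)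

theorem Cv3_z7 : ev (gp Cv3n) [7,10] ^ (0 + 1) = ev (gp Cv3n) [10,7] :=
  eq_of_eqB (k := 18) Cv3n_ok (by norm_num) (by decide +kernel)

theorem Cv3_z8 : ev (gp Cv3n) [8,10] ^ (0 + 1) = ev (gp Cv3n) [10,8] :=
  eq_of_eqB (k := 18) Cv3n_ok (by norm_num) (by decide +kernel)

theorem Cv3_z9 : ev (gp Cv3n) [9,10] ^ (0 + 1) = ev (gp Cv3n) [10,9] :=
  eq_of_eqB (k := 18) Cv3n_ok (by norm_num) (by decide +kernel)

theorem Cv3_a : ev (gp Cv3n) (apd [3,9,4,6,7,6] [6,7,6,4,9,3]) ^ (0 + 1) = ev (gp Cv3n) [] :=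
  eq_of_eqB (k := 18) Cv3n_ok (by norm_num) (by decide +kernel)

theorem Cv3_b : ev (gp Cv3n) (apd [5,1,2,4,8] [8,4,2,1,5]) ^ (0 + 1) = ev (gp Cv3n) [] :=
  eq_of_eqB (k := 18) Cv3n_ok (by norm_num) (by decide +kernel)

theorem Cv3_c_0 : eqB 196608 18 0 4 Cv3n (apd [3,9,4,6,7,6] (apd [5,1,2,4,8] (apd [6,7,6,4,9,3] [8,4,2,1,5]))) 3 [10] = true := by decide +kernel

theorem Cv3_c_4 : eqB 196608 18 4 4 Cv3n (apd [3,9,4,6,7,6] (apd [5,1,2,4,8] (apd [6,7,6,4,9,3] [8,4,2,1,5]))) 3 [10] = true := by decide +kernel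

theorem Cv3_c_8 : eqB 196608 18 8 4 Cv3n (apd [3,9,4,6,7,6] (apd [5,1,2,4,8] (apd [6,7,6,4,9,3] [8,4,2,1,5]))) 3 [10] = true := by decide +kernel

theorem Cv3_c_12 : eqB 196608 18 12 4 Cv3n (apd [3,9,4,6,7,6] (apd [5,1,2,4,8] (apd [6,7,6,4,9,3] [8,4,2,1,5]))) 3 [10] = true := by decide +kernel

theorem Cv3_c_16 : eqB 196608 18 16 2 Cv3n (apd [3,9,4,6,7,6] (apd [5,1,2,4,8] (apd [6,7,6,4,9,3] [8,4,2,1,5]))) 3 [10] = true := by decide +kernel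

theorem Cv3_c : ev (gp Cv3n) (apd [3,9,4,6,7,6] (apd [5,1,2,4,8] (apd [6,7,6,4,9,3] [8,4,2,1,5]))) ^ (3 + 1) = ev (gp Cv3n) [10] :=
  AgreeBits.eq (k := 18) (AgreeBits.trans (AgreeBits.trans (AgreeBits.trans (AgreeBits.trans (agree_of_eqB Cv3n_ok (by norm_num) Cv3_c_0) (agree_of_eqB Cv3n_ok (by norm_num) Cv3_c_4)) (agree_of_eqB Cv3n_ok (by norm_num) Cv3_c_8)) (agree_of_eqB Cv3n_ok (by norm_num) Cv3_c_12)) (agree_of_eqB Cv3n_ok (by norm_num) Cv3_c_16)) (by norm_num) ((fx_ev Cv3n_ok.fx _).pow _) (fx_ev Cv3n_ok.fx _)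

theorem Cv3 (hs : IsSimpleGroup (cl (gp nets) L)) : Cover (cl (gp nets) L) (3 ^ (0 + 1)) :=
  cover_nets (R := R) hs nets_iv nets_rel (ord.of_cons (cons_of_subset (by decide +kernel))) lb Cv3n_ok Cv3n_rel (m := 3) (by decide +kernel)
    (by unfold L; simp only [List.forall_mem_cons]; exact ⟨Cv3_z1, Cv3_z2, Cv3_z3, Cv3_z4, Cv3_z5, Cv3_z6, Cv3_z7, Cv3_z8, Cv3_z9, by simp⟩) Cv3_a Cv3_b Cv3_c
    (x := 1) (y := 2) (k := 2) (pt := 1) (pt' := 0) (by norm_num) (by decide +kernel) (by norm_num) (by decide +kernel)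

end Cfsg.Lib.Comp.Fi22
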