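import Cfsg.Agent.Lib.Comp.Fi22.Base

set_option maxRecDepth 100000

namespace Cfsg.Lib.Comp.Fi22

universe u

noncomputable def MuaH0_1_R : List (List ℕ × ℕ) := [([2],1),
 ([3],1),
 ([4],1),
 ([5],1),
 ([8],1),
 ([9],1),
 ([2,3],2),
 ([2,4],1),
 ([2,5],1),
 ([2,8],1),
 ([2,9],1),
 ([3,4],2),
 ([3,5],1),
 ([3,8],1),
 ([3,9],1),
 ([4,5],2),
 ([4,8],2),
 ([4,9],1),
 ([5,8],1),
 ([5,9],1),
 ([8,9],2)]

noncomputable def MuaH0_1_n_2 : Net :=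
 (Net.cons 16 (nat_lit 0x4000)
 (Net.cons 8 (nat_lit 0x400080)
 (Net.cons 4 (nat_lit 0x40800)
 (Net.cons 2 (nat_lit 0x2000000)
 (Net.cons 1 (nat_lit 0x4000500)
 (Net.cons 2 (nat_lit 0x2012310)
 (Net.cons 4 (nat_lit 0x40800)
 (Net.cons 8 (nat_lit 0x400080)
 (Net.cons 16 (nat_lit 0x4000)
 Net.nil)))))))))

noncomputable def MuaH0_1_n_3 : Net :=
 (Net.cons 4 (nat_lit 0x40a)
 (Net.cons 2 (nat_lit 0x20)
 (Net.cons 1 (nat_lit 0x1000010)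
 (Net.cons 2 (nat_lit 0x13022)
 (Net.cons 4 (nat_lit 0x40a)
 Net.nil)))))

noncomputable def MuaH0_1_n_4 : Net :=
 (Net.cons 16 (nat_lit 0x8000)
 (Net.cons 8 (nat_lit 0x800080)
 (Net.cons 4 (nat_lit 0x80c0800)
 (Net.cons 2 (nat_lit 0x2000000)
 (Net.cons 1 (nat_lit 0x1000004)
 (Net.cons 2 (nat_lit 0x2120300)
 (Net.cons 4 (nat_lit 0x80c0800)
 (Net.cons 8 (nat_lit 0x800080)
 (Net.cons 16 (nat_lit 0x8000)
 Net.nil)))))))))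

noncomputable def MuaH0_1_n_5 : Net :=
 (Net.cons 8 (nat_lit 0x40)
 (Net.cons 4 (nat_lit 0x402)
 (Net.cons 2 (nat_lit 0x20)
 (Net.cons 1 (nat_lit 0x500010)
 (Net.cons 2 (nat_lit 0x20122)
 (Net.cons 4 (nat_lit 0x402)
 (Net.cons 8 (nat_lit 0x40)
 Net.nil)))))))

noncomputable def MuaH0_1_n_8 : Net :=
 (Net.cons 4 (nat_lit 0x400)
 (Net.cons 2 (nat_lit 0x2)
 (Net.cons 1 (nat_lit 0x5004)
 (Net.cons 2 (nat_lit 0x303202)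
 (Net.cons 4 (nat_lit 0x400)
 Net.nil)))))

noncomputable def MuaH0_1_n_9 : Net :=
 (Net.cons 16 (nat_lit 0xa000)
 (Net.cons 8 (nat_lit 0xa80000)
 (Net.cons 4 (nat_lit 0x8080800)
 (Net.cons 1 (nat_lit 0x154001)
 (Net.cons 2 (nat_lit 0x20000000)
 (Net.cons 4 (nat_lit 0x80b0800)
 (Net.cons 8 (nat_lit 0xa80000)
 (Net.cons 16 (nat_lit 0xa000)
 Net.nil))))))))

noncomputable def MuaH0_1_n : List Net := [Net.nil,
 Net.nil,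
 MuaH0_1_n_2,
 MuaH0_1_n_3,
 MuaH0_1_n_4,
 MuaH0_1_n_5,
 Net.nil,
 Net.nil,
 MuaH0_1_n_8,
 MuaH0_1_n_9]

theorem MuaH0_1_n_ok : NetsOK 32 MuaH0_1_n := netsOK_of (by decide +kernel)

theorem MuaH0_1_n_rel : Rels (gp MuaH0_1_n) MuaH0_1_R := rels_of_relsB (k := 5) MuaH0_1_n_ok (by norm_num) (by decide +kernel)

theorem MuaH0_1_fin : finB 32 MuaH0_1_n [2,3,4,5,8,9] 27 (runH 32 MuaH0_1_n (fun x p => ptInv (nth Net.nil MuaH0_1_n x) p) iv MuaH0_1_R [] ([2,3,4,5,8].map fun x => [x]) 0 []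
  (apd [1,5,9,13,17,0,4,8,12,16,20,28,36,40,48,52,56,68,72,76,80,32,36,52,64,68,72,76,28,32,44,52,56,60,64,68,72,76,80,24,28,32,36,40,44,48,52,56,60,64,72,80,24,28,32,36,44,52,60,68]
 [28,36,48,56,24,32,40])
  (defsH 32 MuaH0_1_n (ones 320) [9,8,4,5,3,4,8,9,2,3,4,5,8,4,3,2] (Nat.shiftLeft 1 0) 0)) = true := by decide +kernel

theorem MuaH0_1_idx : Idx.{u} iv (MuaH0_1_R ++ []) ([2,3,4,5,8].map fun x => [x]) [2,3,4,5,8,9] 27 :=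
  Reach.idx MuaH0_1_n_ok (reach_runH MuaH0_1_n_ok (fun x p _ => ptInv_gp MuaH0_1_n_ok x p) MuaH0_1_n_rel (reach_defsH MuaH0_1_n_ok _ _ _ _ _ _) _ _) MuaH0_1_fin (by norm_num)

end Cfsg.Lib.Comp.Fi22
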