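import Cfsg.Agent.Lib.Comp.Fi22.Base

set_option maxRecDepth 100000

namespace Cfsg.Lib.Comp.Fi22

universe u

noncomputable def MuaH0_3_R : List (List ℕ × ℕ) := [([3],1),
 ([4],1),
 ([5],1),
 ([8],1),
 ([3,4],2),
 ([3,5],1),
 ([3,8],1),
 ([4,5],2),
 ([4,8],2),
 ([5,8],1)]

noncomputable def MuaH0_3_n_3 : Net :=
 (Net.cons 1 (nat_lit 0x14)
 Net.nil)

noncomputable def MuaH0_3_n_4 : Net :=
 (Net.cons 2 (nat_lit 0x22)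
 (Net.cons 1 (nat_lit 0x44)
 (Net.cons 2 (nat_lit 0x22)
 Net.nil)))

noncomputable def MuaH0_3_n_5 : Net :=
 (Net.cons 4 (nat_lit 0xc)
 (Net.cons 2 (nat_lit 0x30)
 (Net.cons 4 (nat_lit 0xc)
 Net.nil)))

noncomputable def MuaH0_3_n_8 : Net :=
 (Net.cons 1 (nat_lit 0x41)
 Net.nil)

noncomputable def MuaH0_3_n : List Net := [Net.nil,
 Net.nil,
 Net.nil,
 MuaH0_3_n_3,
 MuaH0_3_n_4,
 MuaH0_3_n_5,
 Net.nil,
 Net.nil,
 MuaH0_3_n_8]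

theorem MuaH0_3_n_ok : NetsOK 8 MuaH0_3_n := netsOK_of (by decide +kernel)

theorem MuaH0_3_n_rel : Rels (gp MuaH0_3_n) MuaH0_3_R := rels_of_relsB (k := 3) MuaH0_3_n_ok (by norm_num) (by decide +kernel)

theorem MuaH0_3_fin : finB 8 MuaH0_3_n [3,4,5,8] 8 (runH 8 MuaH0_3_n (fun x p => ptInv (nth Net.nil MuaH0_3_n x) p) iv MuaH0_3_R [] ([3,4,5].map fun x => [x]) 0 []
  [1,5,9,0,4,8,12,20,24,32,36,16,24,28,32,36,16,24]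
  (defsH 8 MuaH0_3_n (ones 80) [8,4,5,3,4,8] (Nat.shiftLeft 1 0) 0)) = true := by decide +kernel

theorem MuaH0_3_idx : Idx.{u} iv (MuaH0_3_R ++ []) ([3,4,5].map fun x => [x]) [3,4,5,8] 8 :=
  Reach.idx MuaH0_3_n_ok (reach_runH MuaH0_3_n_ok (fun x p _ => ptInv_gp MuaH0_3_n_ok x p) MuaH0_3_n_rel (reach_defsH MuaH0_3_n_ok _ _ _ _ _ _) _ _) MuaH0_3_fin (by norm_num)

end Cfsg.Lib.Comp.Fi22
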