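import Cfsg.Agent.Lib.Comp.Fi22.MuaH0_0
import Cfsg.Agent.Lib.Comp.Fi22.MuaH0_1
import Cfsg.Agent.Lib.Comp.Fi22.MuaH0_2
import Cfsg.Agent.Lib.Comp.Fi22.MuaH0_3
import Cfsg.Agent.Lib.Comp.Fi22.MuaH0_4
import Cfsg.Agent.Lib.Comp.Fi22.MuaH0_5
import Cfsg.Agent.Lib.Comp.Fi22.MuaH0_6
import Cfsg.Agent.Lib.Comp.Fi22.Mua0
import Cfsg.Agent.Lib.Comp.Fi22.Main
import Cfsg.Agent.Lib.Comp.Cover

set_option maxRecDepth 100000

namespace Cfsg.Lib.Comp.Fi22

universe u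

theorem MuaX_rel : Rels (gp nets) MuaX := rels_of_relsB (k := 12) nets_ok (by norm_num) (by decide +kernel)

theorem MuaH0_6_ord : Ord.{u} iv MuaH0_6_R [3] 2 :=
  (MuaH0_6_idx.ord_base).of_cons (cons_of_subset (by decide +kernel))

theorem MuaH0_5_ord : Ord.{u} iv MuaH0_5_R [3,4] 6 :=
  (MuaH0_5_idx.ord_step MuaH0_6_ord).of_cons (cons_of_subset (by decide +kernel))

theorem MuaH0_4_ord : Ord.{u} iv MuaH0_4_R [3,4,5] 24 :=
  (MuaH0_4_idx.ord_step MuaH0_5_ord).of_cons (cons_of_subset (by decide +kernel))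

theorem MuaH0_3_ord : Ord.{u} iv MuaH0_3_R [3,4,5,8] 192 :=
  (MuaH0_3_idx.ord_step MuaH0_4_ord).of_cons (cons_of_subset (by decide +kernel))

theorem MuaH0_2_ord : Ord.{u} iv MuaH0_2_R [2,3,4,5,8] 1920 :=
  (MuaH0_2_idx.ord_step MuaH0_3_ord).of_cons (cons_of_subset (by decide +kernel))

theorem MuaH0_1_ord : Ord.{u} iv MuaH0_1_R [2,3,4,5,8,9] 51840 :=
  (MuaH0_1_idx.ord_step MuaH0_2_ord).of_cons (cons_of_subset (by decide +kernel))

theorem MuaH0_0_ord : Ord.{u} iv MuaH0_0_R [1,2,3,4,5,8,9] 1451520 :=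
  (MuaH0_0_idx.ord_step MuaH0_1_ord).of_cons (cons_of_subset (by decide +kernel))

noncomputable def MuaH0_lb_n_1 : Net :=
 (Net.cons 32 (nat_lit 0x400)
 (Net.cons 16 (nat_lit 0x400)
 (Net.cons 8 (nat_lit 0x40000007c)
 (Net.cons 4 (nat_lit 0xe080c08)
 (Net.cons 2 (nat_lit 0x20020000)
 (Net.cons 1 (nat_lit 0x11011404)
 (Net.cons 2 (nat_lit 0x103022300)
 (Net.cons 4 (nat_lit 0xc080e08)
 (Net.cons 8 (nat_lit 0x400780004)
 (Net.cons 16 (nat_lit 0xff7e)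
 (Net.cons 32 (nat_lit 0x400)
 Net.nil)))))))))))

noncomputable def MuaH0_lb_n_2 : Net :=
 (Net.cons 32 (nat_lit 0xfffc0000)
 (Net.cons 16 (nat_lit 0x555400000000)
 (Net.cons 1 (nat_lit 0x5554555500000001)
 (Net.cons 2 (nat_lit 0x333300000000)
 (Net.cons 4 (nat_lit 0x90900000000)
 (Net.cons 8 (nat_lit 0x8100000000)
 (Net.cons 16 (nat_lit 0x555400000000)
 (Net.cons 32 (nat_lit 0xfffc0000)
 Net.nil))))))))

noncomputable def MuaH0_lb_n_3 : Net :=
 (Net.cons 16 (nat_lit 0x55000000f800)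
 (Net.cons 8 (nat_lit 0x80000000800000)
 (Net.cons 4 (nat_lit 0x60c0000)
 (Net.cons 2 (nat_lit 0x20020002)
 (Net.cons 1 (nat_lit 0x5500550015440004)
 (Net.cons 2 (nat_lit 0x3300000020200002)
 (Net.cons 4 (nat_lit 0x900000006030000)
 (Net.cons 8 (nat_lit 0x80000000c80000)
 (Net.cons 16 (nat_lit 0x55000000f800)
 Net.nil)))))))))

noncomputable def MuaH0_lb_n_4 : Net :=
 (Net.cons 32 (nat_lit 0x200000)
 (Net.cons 16 (nat_lit 0x2000000000)
 (Net.cons 8 (nat_lit 0xc600c40000)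
 (Net.cons 4 (nat_lit 0x40600040200)
 (Net.cons 2 (nat_lit 0x202002200000)
 (Net.cons 1 (nat_lit 0x411504141504)
 (Net.cons 2 (nat_lit 0x202002200300)
 (Net.cons 4 (nat_lit 0x40600040200)
 (Net.cons 8 (nat_lit 0xf00c600c40000)
 (Net.cons 16 (nat_lit 0x2000000000)
 (Net.cons 32 (nat_lit 0x200000)
 Net.nil)))))))))))

noncomputable def MuaH0_lb_n_5 : Net :=
 (Net.cons 32 (nat_lit 0xb6000000)
 (Net.cons 16 (nat_lit 0x278000000000)
 (Net.cons 8 (nat_lit 0xb000000070)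
 (Net.cons 4 (nat_lit 0x40008020a000000)
 (Net.cons 2 (nat_lit 0x2002000000)
 (Net.cons 1 (nat_lit 0x5500451154000000)
 (Net.cons 2 (nat_lit 0x3000032002000000)
 (Net.cons 4 (nat_lit 0x40008020a000708)
 (Net.cons 8 (nat_lit 0xb000000070)
 (Net.cons 16 (nat_lit 0x278000000000)
 (Net.cons 32 (nat_lit 0xb6000000)
 Net.nil)))))))))))

noncomputable def MuaH0_lb_n_8 : Net :=
 (Net.cons 16 (nat_lit 0x2000)
 (Net.cons 8 (nat_lit 0x80000000b00098)
 (Net.cons 4 (nat_lit 0x804000000020000)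
 (Net.cons 2 (nat_lit 0x20000000002220)
 (Net.cons 1 (nat_lit 0x44000000011110)
 (Net.cons 2 (nat_lit 0x220011022002220)
 (Net.cons 4 (nat_lit 0x904020805020900)
 (Net.cons 8 (nat_lit 0x80000000b00098)
 (Net.cons 16 (nat_lit 0x2000)
 Net.nil)))))))))

noncomputable def MuaH0_lb_n_9 : Net :=
 (Net.cons 16 (nat_lit 0xc000)
 (Net.cons 8 (nat_lit 0xc00000)
 (Net.cons 4 (nat_lit 0xc0c0c00)
 (Net.cons 2 (nat_lit 0x202202020202000)
 (Net.cons 1 (nat_lit 0x1404444414101510)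
 (Net.cons 2 (nat_lit 0x212202020212000)
 (Net.cons 4 (nat_lit 0xc0c0c00)
 (Net.cons 8 (nat_lit 0xc00000)
 (Net.cons 16 (nat_lit 0xc000)
 Net.nil)))))))))

noncomputable def MuaH0_lb_n_64 : Net :=
 (Net.cons 16 (nat_lit 0xa05000000e08)
 (Net.cons 8 (nat_lit 0x800d0)
 (Net.cons 4 (nat_lit 0x60800080c040c)
 (Net.cons 2 (nat_lit 0x2000000020002)
 (Net.cons 1 (nat_lit 0x4404504040440144)
 (Net.cons 2 (nat_lit 0x12000000021002)
 (Net.cons 4 (nat_lit 0xc060800080c0c0c)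
 (Net.cons 8 (nat_lit 0x800d0)
 (Net.cons 16 (nat_lit 0xe85800000e08)
 Net.nil)))))))))

noncomputable def MuaH0_lb_n_65 : Net :=
 (Net.cons 32 (nat_lit 0x100000)
 (Net.cons 16 (nat_lit 0x403000008060)
 (Net.cons 8 (nat_lit 0x4000c000800088)
 (Net.cons 4 (nat_lit 0x60002020400)
 (Net.cons 2 (nat_lit 0x2000202200000200)
 (Net.cons 1 (nat_lit 0x4505154451450104)
 (Net.cons 2 (nat_lit 0x2010202230001220)
 (Net.cons 4 (nat_lit 0x60902020600)
 (Net.cons 8 (nat_lit 0x4c00c000800088)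
 (Net.cons 16 (nat_lit 0x403000008060)
 (Net.cons 32 (nat_lit 0x100000)
 Net.nil)))))))))))

noncomputable def MuaH0_lb_n_66 : Net :=
 (Net.cons 32 (nat_lit 0x10900000)
 (Net.cons 16 (nat_lit 0xff0000001090)
 (Net.cons 8 (nat_lit 0x90008000e8)
 (Net.cons 4 (nat_lit 0x4020a0808000000)
 (Net.cons 2 (nat_lit 0x2020020000000000)
 (Net.cons 1 (nat_lit 0x4110114045105500)
 (Net.cons 2 (nat_lit 0x3122200021203320)
 (Net.cons 4 (nat_lit 0xb06050907010600)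
 (Net.cons 8 (nat_lit 0x90003100e8)
 (Net.cons 16 (nat_lit 0xff0000001090)
 (Net.cons 32 (nat_lit 0x10900000)
 Net.nil)))))))))))

noncomputable def MuaH0_lb_n_67 : Net :=
 (Net.cons 32 (nat_lit 0x80000000)
 (Net.cons 16 (nat_lit 0xe00000008000)
 (Net.cons 8 (nat_lit 0xe000000000)
 (Net.cons 4 (nat_lit 0xc0008080000)
 (Net.cons 2 (nat_lit 0x20200202020220)
 (Net.cons 1 (nat_lit 0x4444145111111440)
 (Net.cons 2 (nat_lit 0x20203202020220)
 (Net.cons 4 (nat_lit 0xc0908080000)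
 (Net.cons 8 (nat_lit 0xe000810000)
 (Net.cons 16 (nat_lit 0xe00000008000)
 (Net.cons 32 (nat_lit 0x80000000)
 Net.nil)))))))))))

noncomputable def MuaH0_lb_n : List Net := (apd [Net.nil,
 MuaH0_lb_n_1,
 MuaH0_lb_n_2,
 MuaH0_lb_n_3,
 MuaH0_lb_n_4,
 MuaH0_lb_n_5,
 Net.nil,
 Net.nil,
 MuaH0_lb_n_8,
 MuaH0_lb_n_9,
 Net.nil,
 Net.nil,
 Net.nil,
 Net.nil,
 Net.nil,
 Net.nil,
 Net.nil,
 Net.nil,
 Net.nil,
 Net.nil,
 Net.nil,
 Net.nil,
 Net.nil,
 Net.nil,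
 Net.nil,
 Net.nil,
 Net.nil,
 Net.nil,
 Net.nil,
 Net.nil,
 Net.nil,
 Net.nil,
 Net.nil,
 Net.nil,
 Net.nil,
 Net.nil,
 Net.nil,
 Net.nil,
 Net.nil,
 Net.nil]
 [Net.nil,
 Net.nil,
 Net.nil,
 Net.nil,
 Net.nil,
 Net.nil,
 Net.nil,
 Net.nil,
 Net.nil,
 Net.nil,
 Net.nil,
 Net.nil,
 Net.nil,
 Net.nil,
 Net.nil,
 Net.nil,
 Net.nil,
 Net.nil,
 Net.nil,
 Net.nil,
 Net.nil,
 Net.nil,
 Net.nil,
 Net.nil,
 MuaH0_lb_n_64,
 MuaH0_lb_n_65,
 MuaH0_lb_n_66,
 MuaH0_lb_n_67])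

theorem MuaH0_lb_n_ok : NetsOK 64 MuaH0_lb_n := netsOK_of (by decide +kernel)

theorem MuaH0_lb : 1451520 ≤ Nat.card (cl (gp nets) [1,2,3,4,5,8,9]) :=
  lb_of_itwB (k := 6) (n := 63) nets_ok MuaH0_lb_n_ok (by norm_num) (by norm_num) (tbA_pt nets_ok) (tbA_pt MuaH0_lb_n_ok) (φ := look2 (nat_lit 0xb0400b2f00b5100b0600b1300b2000b4f00b1f00b6400b0c00b4b00b6000b0b00b0a00b0200b8c00bff00c2900ba300beb00bf800c2700bf700c9500c3700c0700c3900c9300c6b00b7f008d70094a00974008ee00936009430097200942009e0009820095200984009de009b6008ca006920083e0089c0081e008400089a008720079300816007f4007f2007aa008020080f0080e007860000100000) 20 64) (by decide +kernel) (by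
    rw [← cl_eq_of_slpB (k := 6) (D := [(64,[2,1,3,2,4,3,5,8,4,8,5,3,4,2,3,1,2]),
 (65,[3,4,64,8,5,4,3,1]),
 (66,[4,8,65,8,4]),
 (67,[5,66,8])]) MuaH0_lb_n_ok (by norm_num) (by decide +kernel)]
    exact lb_of_chainB MuaH0_lb_n_ok (C := [([1,3,4,5,8,9,64,65,66,67],[2,1,3,64,4,9,2,8,65,3,4,8,9],0,0,63),
 ([4,5,8,9,65,66,67],[1,3,64,4,9,8,65],1,1,32),
 ([5,8,9,66,67],[4,65,5,9,65,66,9],2,2,15),
 ([9,67],[5,8,9,66],3,3,8),
 ([67],[9,67],4,4,3),
 ([],[67],5,5,2)]) (by decide +kernel))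

theorem Mua_mb : MB (cl (gp nets) L) 4 2 :=
  mb_cyc (w := 13) (n := 49) (La := L) (ix := nth 0 [0,0,1,2,3,4,5,6,7,8]) (by norm_num) (by norm_num) (nets_iv.sval _) ((nets_rel.append MuaX_rel).sval fun r hr x hx => mem_cl (sub_of_allR (by decide +kernel) r hr x hx)) (by decide +kernel)
    (TStep.trans (TStep.trans (TStep.trans (TStep.trans (TStep.trans (TStep.trans (TStep.trans (TStep.trans (TStep.trans (TStep.trans (TStep.trans (TStep.trans (TStep.trans (TStep.trans (TStep.repar (k' := 40) (by norm_num) (by norm_num) (by decide +kernel) (by decide +kernel) Mua1_b)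
    (TStep.enum0 (by norm_num) (by norm_num) Mua2_0 (Gs := Mua2G) (by decide +kernel)))
    (TStep.repar (k' := 5) (by norm_num) (by norm_num) (by decide +kernel) (by decide +kernel) Mua3_b))
    (TStep.enum0 (by norm_num) (by norm_num) Mua4_0 (Gs := Mua4G) (by decide +kernel)))
    (TStep.repar (k' := 4) (by norm_num) (by norm_num) (by decide +kernel) (by decide +kernel) Mua5_b))
    (TStep.enum0 (by norm_num) (by norm_num) Mua6_0 (Gs := Mua6G) (by decide +kernel)))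
    (TStep.repar (k' := 3) (by norm_num) (by norm_num) (by decide +kernel) (by decide +kernel) Mua7_b))
    (TStep.enum0 (by norm_num) (by norm_num) Mua8_0 (Gs := Mua8G) (by decide +kernel)))
    (TStep.repar (k' := 3) (by norm_num) (by norm_num) (by decide +kernel) (by decide +kernel) Mua9_b))
    (TStep.enum0 (by norm_num) (by norm_num) Mua10_0 (Gs := Mua10G) (by decide +kernel)))
    (TStep.repar (k' := 3) (by norm_num) (by norm_num) (by decide +kernel) (by decide +kernel) Mua11_b))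
    (TStep.repar (k' := 3) (by norm_num) (by norm_num) (by decide +kernel) (by decide +kernel) Mua12_b))
    (TStep.enum (by norm_num) (by norm_num) Mua13_0 (I := [0,1,2,3,4,7,8,9,10,11,12,15,16,17,18,19,22,23,24,25,28,29,30,33,34,37,38,44,48]) (by decide +kernel) (by decide +kernel) MuaH0_0_ord (c := 1) (lb_sval (fun _ hx => mem_cl (sub_of_subB (by decide +kernel) _ hx)) MuaH0_lb (by norm_num)) (Gs := Mua13G) (by decide +kernel)))
    (TStep.repar (k' := 1) (by norm_num) (by norm_num) (by decide +kernel) (by decide +kernel) Mua14_b))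
    (TStep.cons (by norm_num) (by norm_num) (c := (nat_lit 0x1)) (v := 2) (by decide +kernel) (by decide +kernel)))
    (by norm_num) List.mem_cons_self (by norm_num)
    (TStep.repar (k' := 0) (by norm_num) (by norm_num) (by decide +kernel) (by decide +kernel) Mua16_b)
    (L := [1,2,3,4,5,6,7,8,9]) (I := [0,1,2,3,4,5,6,7,8,9,10,11,12,13,14,15,16,17,18,19,20,21,22,23,24,25,26,27,28,29,30,31,32,33,34,35,36,37,38,39,40,41,42,43,44,45,46,47,48]) (by decide +kernel) (by decide +kernel) ord card.ge (cl_sval_top _ _)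

end Cfsg.Lib.Comp.Fi22
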