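import Cfsg.Agent.Lib.Comp.Fi22.Base

set_option maxRecDepth 100000

namespace Cfsg.Lib.Comp.Fi22

universe u

noncomputable def MuaH0_0_R : List (List ℕ × ℕ) := [([1],1),
 ([2],1),
 ([3],1),
 ([4],1),
 ([5],1),
 ([8],1),
 ([9],1),
 ([1,2],2),
 ([1,3],1),
 ([1,4],1),
 ([1,5],1),
 ([1,8],1),
 ([1,9],1),
 ([2,3],2),
 ([2,4],1),
 ([2,5],1),
 ([2,8],1),
 ([2,9],1),
 ([3,4],2),
 ([3,5],1),
 ([3,8],1),
 ([3,9],1),
 ([4,5],2),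
 ([4,8],2),
 ([4,9],1),
 ([5,8],1),
 ([5,9],1),
 ([8,9],2),
 ([1,2,3,4,5,8,9],8)]

noncomputable def MuaH0_0_n_1 : Net :=
 (Net.cons 16 (nat_lit 0x2000)
 (Net.cons 8 (nat_lit 0xa00000)
 (Net.cons 4 (nat_lit 0xc0a0000)
 (Net.cons 1 (nat_lit 0x40010001)
 (Net.cons 2 (nat_lit 0x2300000)
 (Net.cons 4 (nat_lit 0xc0a0000)
 (Net.cons 8 (nat_lit 0xa00000)
 (Net.cons 16 (nat_lit 0x2000)
 Net.nil))))))))

noncomputable def MuaH0_0_n_2 : Net :=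
 (Net.cons 16 (nat_lit 0x4000)
 (Net.cons 8 (nat_lit 0x400000)
 (Net.cons 4 (nat_lit 0x40800)
 (Net.cons 2 (nat_lit 0x2020002)
 (Net.cons 1 (nat_lit 0x1040004)
 (Net.cons 2 (nat_lit 0x2322002)
 (Net.cons 4 (nat_lit 0x40800)
 (Net.cons 8 (nat_lit 0x400000)
 (Net.cons 16 (nat_lit 0x4000)
 Net.nil)))))))))

noncomputable def MuaH0_0_n_3 : Net :=
 (Net.cons 16 (nat_lit 0x8000)
 (Net.cons 4 (nat_lit 0x4080000)
 (Net.cons 1 (nat_lit 0x40040004)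
 (Net.cons 2 (nat_lit 0x2001200)
 (Net.cons 4 (nat_lit 0x4080000)
 (Net.cons 8 (nat_lit 0x840000)
 (Net.cons 16 (nat_lit 0x8000)
 Net.nil)))))))

noncomputable def MuaH0_0_n_4 : Net :=
 (Net.cons 8 (nat_lit 0x400080)
 (Net.cons 4 (nat_lit 0x4040c08)
 (Net.cons 2 (nat_lit 0x2000020)
 (Net.cons 1 (nat_lit 0x4500010)
 (Net.cons 2 (nat_lit 0x2301220)
 (Net.cons 4 (nat_lit 0x4040c08)
 (Net.cons 8 (nat_lit 0x400080)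
 Net.nil)))))))

noncomputable def MuaH0_0_n_5 : Net :=
 (Net.cons 8 (nat_lit 0xa00000)
 (Net.cons 4 (nat_lit 0x6000000)
 (Net.cons 2 (nat_lit 0x20000000)
 (Net.cons 1 (nat_lit 0x41000050)
 (Net.cons 2 (nat_lit 0x20000100)
 (Net.cons 4 (nat_lit 0xe000000)
 (Net.cons 8 (nat_lit 0xa00000)
 Net.nil)))))))

noncomputable def MuaH0_0_n_8 : Net :=
 (Net.cons 16 (nat_lit 0x4000)
 (Net.cons 8 (nat_lit 0x480000)
 (Net.cons 4 (nat_lit 0x8020000)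
 (Net.cons 2 (nat_lit 0x2000)
 (Net.cons 1 (nat_lit 0x40101000)
 (Net.cons 2 (nat_lit 0x2030)
 (Net.cons 4 (nat_lit 0x8060000)
 (Net.cons 8 (nat_lit 0x480000)
 (Net.cons 16 (nat_lit 0x4000)
 Net.nil)))))))))

noncomputable def MuaH0_0_n_9 : Net :=
 (Net.cons 16 (nat_lit 0x2000)
 (Net.cons 8 (nat_lit 0x2000c8)
 (Net.cons 4 (nat_lit 0x608)
 (Net.cons 2 (nat_lit 0x20000)
 (Net.cons 1 (nat_lit 0x15040)
 (Net.cons 2 (nat_lit 0x20100)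
 (Net.cons 4 (nat_lit 0x20608)
 (Net.cons 8 (nat_lit 0x2000c8)
 (Net.cons 16 (nat_lit 0x2000)
 Net.nil)))))))))

noncomputable def MuaH0_0_n : List Net := [Net.nil,
 MuaH0_0_n_1,
 MuaH0_0_n_2,
 MuaH0_0_n_3,
 MuaH0_0_n_4,
 MuaH0_0_n_5,
 Net.nil,
 Net.nil,
 MuaH0_0_n_8,
 MuaH0_0_n_9]

theorem MuaH0_0_n_ok : NetsOK 32 MuaH0_0_n := netsOK_of (by decide +kernel)

theorem MuaH0_0_n_rel : Rels (gp MuaH0_0_n) MuaH0_0_R := rels_of_relsB (k := 5) MuaH0_0_n_ok (by norm_num) (by decide +kernel)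

theorem MuaH0_0_fin : finB 32 MuaH0_0_n [1,2,3,4,5,8,9] 28 (runH 32 MuaH0_0_n (fun x p => ptInv (nth Net.nil MuaH0_0_n x) p) iv MuaH0_0_R [] ([2,3,4,5,8,9].map fun x => [x]) 0 []
  (apd [1,5,9,13,17,21,0,4,8,12,16,20,24,28,32,36,40,44,48,52,56,60,64,68,72,76,80,84,88,92,96,100,104,108,36,44,56,64,72,80,84,88,92,96,100,104,32,36,40,52,56,64,68,72,76,80,84,88,92,96]
 [100,104,108,52,56,60,64,68,72,80,84,112,0,48,44,36,40])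
  (defsH 32 MuaH0_0_n (ones 320) [1,2,3,4,5,8,9,4,8,3,4,5,2,3,4,8,9] (Nat.shiftLeft 1 0) 0)) = true := by decide +kernel

theorem MuaH0_0_idx : Idx.{u} iv (MuaH0_0_R ++ []) ([2,3,4,5,8,9].map fun x => [x]) [1,2,3,4,5,8,9] 28 :=
  Reach.idx MuaH0_0_n_ok (reach_runH MuaH0_0_n_ok (fun x p _ => ptInv_gp MuaH0_0_n_ok x p) MuaH0_0_n_rel (reach_defsH MuaH0_0_n_ok _ _ _ _ _ _) _ _) MuaH0_0_fin (by norm_num)

end Cfsg.Lib.Comp.Fi22
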