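import Cfsg.Agent.Lib.Comp.Fi22.Base

set_option maxRecDepth 100000

namespace Cfsg.Lib.Comp.Fi22

universe u

noncomputable def MubH1_0_R : List (List ℕ × ℕ) := [([1],1),
 ([2],1),
 ([3],1),
 ([4],1),
 ([5],1),
 ([6],1),
 ([8],1),
 ([1,2],2),
 ([1,3],1),
 ([1,4],1),
 ([1,5],1),
 ([1,6],1),
 ([1,8],1),
 ([2,3],2),
 ([2,4],1),
 ([2,5],1),
 ([2,6],1),
 ([2,8],1),
 ([3,4],2),
 ([3,5],1),
 ([3,6],1),
 ([3,8],1),
 ([4,5],2),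
 ([4,6],1),
 ([4,8],2),
 ([5,6],2),
 ([5,8],1),
 ([6,8],1),
 ([1,2,3,4,5,6,8],8)]

noncomputable def MubH1_0_n_1 : Net :=
 (Net.cons 16 (nat_lit 0x8000)
 (Net.cons 8 (nat_lit 0x800000)
 (Net.cons 4 (nat_lit 0xc0c0000)
 (Net.cons 2 (nat_lit 0x20000)
 (Net.cons 1 (nat_lit 0x40410001)
 (Net.cons 2 (nat_lit 0x2130000)
 (Net.cons 4 (nat_lit 0xc010000)
 (Net.cons 8 (nat_lit 0x800000)
 (Net.cons 16 (nat_lit 0x8000)
 Net.nil)))))))))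

noncomputable def MubH1_0_n_2 : Net :=
 (Net.cons 16 (nat_lit 0x2000)
 (Net.cons 8 (nat_lit 0xa00000)
 (Net.cons 2 (nat_lit 0x2002002)
 (Net.cons 1 (nat_lit 0x1111004)
 (Net.cons 2 (nat_lit 0x22002002)
 (Net.cons 4 (nat_lit 0x30000)
 (Net.cons 8 (nat_lit 0xa00000)
 (Net.cons 16 (nat_lit 0x2000)
 Net.nil))))))))

noncomputable def MubH1_0_n_3 : Net :=
 (Net.cons 16 (nat_lit 0x4000)
 (Net.cons 8 (nat_lit 0xc00000)
 (Net.cons 4 (nat_lit 0x4040c00)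
 (Net.cons 2 (nat_lit 0x20000)
 (Net.cons 1 (nat_lit 0x40040004)
 (Net.cons 2 (nat_lit 0x2023000)
 (Net.cons 4 (nat_lit 0x4040c00)
 (Net.cons 8 (nat_lit 0xc00000)
 (Net.cons 16 (nat_lit 0x4000)
 Net.nil)))))))))

noncomputable def MubH1_0_n_4 : Net :=
 (Net.cons 8 (nat_lit 0x400000)
 (Net.cons 4 (nat_lit 0x4000008)
 (Net.cons 2 (nat_lit 0x2200020)
 (Net.cons 1 (nat_lit 0x4100010)
 (Net.cons 2 (nat_lit 0x2200320)
 (Net.cons 4 (nat_lit 0x4020008)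
 (Net.cons 8 (nat_lit 0x400000)
 Net.nil)))))))

noncomputable def MubH1_0_n_5 : Net :=
 (Net.cons 16 (nat_lit 0x2000)
 (Net.cons 8 (nat_lit 0x200048)
 (Net.cons 4 (nat_lit 0x80408)
 (Net.cons 1 (nat_lit 0x400050)
 (Net.cons 2 (nat_lit 0x100)
 (Net.cons 4 (nat_lit 0xb0408)
 (Net.cons 8 (nat_lit 0x200048)
 (Net.cons 16 (nat_lit 0x2000)
 Net.nil))))))))

noncomputable def MubH1_0_n_6 : Net :=
 (Net.cons 16 (nat_lit 0x8000)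
 (Net.cons 8 (nat_lit 0x800000)
 (Net.cons 4 (nat_lit 0xc0000)
 (Net.cons 2 (nat_lit 0x20000)
 (Net.cons 1 (nat_lit 0x411500)
 (Net.cons 2 (nat_lit 0x20020)
 (Net.cons 4 (nat_lit 0xc0000)
 (Net.cons 8 (nat_lit 0x800000)
 (Net.cons 16 (nat_lit 0x8000)
 Net.nil)))))))))

noncomputable def MubH1_0_n_8 : Net :=
 (Net.cons 8 (nat_lit 0xa000a0)
 (Net.cons 4 (nat_lit 0x6000200)
 (Net.cons 2 (nat_lit 0x20000000)
 (Net.cons 1 (nat_lit 0x41000100)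
 (Net.cons 2 (nat_lit 0x20002010)
 (Net.cons 4 (nat_lit 0xe000200)
 (Net.cons 8 (nat_lit 0xa000a0)
 Net.nil)))))))

noncomputable def MubH1_0_n : List Net := [Net.nil,
 MubH1_0_n_1,
 MubH1_0_n_2,
 MubH1_0_n_3,
 MubH1_0_n_4,
 MubH1_0_n_5,
 MubH1_0_n_6,
 Net.nil,
 MubH1_0_n_8]

theorem MubH1_0_n_ok : NetsOK 32 MubH1_0_n := netsOK_of (by decide +kernel)

theorem MubH1_0_n_rel : Rels (gp MubH1_0_n) MubH1_0_R := rels_of_relsB (k := 5) MubH1_0_n_ok (by norm_num) (by decide +kernel)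

theorem MubH1_0_fin : finB 32 MubH1_0_n [1,2,3,4,5,6,8] 28 (runH 32 MubH1_0_n (fun x p => ptInv (nth Net.nil MubH1_0_n x) p) iv MubH1_0_R [] ([2,3,4,5,6,8].map fun x => [x]) 0 []
  (apd [1,5,9,13,17,21,0,4,8,12,16,20,24,28,32,36,40,44,48,52,56,60,64,68,72,76,80,84,88,92,96,100,104,108,36,40,56,60,72,84,88,92,96,100,104,32,36,48,52,56,60,68,72,76,80,84,88,92,96,104]
 [108,52,56,60,64,80,92,100,112,0,44,40,36,48])
  (defsH 32 MubH1_0_n (ones 320) [1,2,3,4,5,6,8,4,5,3,4,8,2,3,4,5,6] (Nat.shiftLeft 1 0) 0)) = true := by decide +kernel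

theorem MubH1_0_idx : Idx.{u} iv (MubH1_0_R ++ []) ([2,3,4,5,6,8].map fun x => [x]) [1,2,3,4,5,6,8] 28 :=
  Reach.idx MubH1_0_n_ok (reach_runH MubH1_0_n_ok (fun x p _ => ptInv_gp MubH1_0_n_ok x p) MubH1_0_n_rel (reach_defsH MubH1_0_n_ok _ _ _ _ _ _) _ _) MubH1_0_fin (by norm_num)

end Cfsg.Lib.Comp.Fi22
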