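import Cfsg.Agent.Lib.Comp.Fi22.Base

set_option maxRecDepth 100000

namespace Cfsg.Lib.Comp.Fi22

universe u

noncomputable def MubH1_2_R : List (List ℕ × ℕ) := [([2],1),
 ([3],1),
 ([4],1),
 ([5],1),
 ([8],1),
 ([2,3],2),
 ([2,4],1),
 ([2,5],1),
 ([2,8],1),
 ([3,4],2),
 ([3,5],1),
 ([3,8],1),
 ([4,5],2),
 ([4,8],2),
 ([5,8],1)]

noncomputable def MubH1_2_n_2 : Net :=
 (Net.cons 1 (nat_lit 0x1)
 (Net.cons 1 (nat_lit 0x100)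
 Net.nil))

noncomputable def MubH1_2_n_3 : Net :=
 (Net.cons 1 (nat_lit 0x80)
 (Net.cons 1 (nat_lit 0x2)
 Net.nil))

noncomputable def MubH1_2_n_4 : Net :=
 (Net.cons 1 (nat_lit 0x4)
 (Net.cons 1 (nat_lit 0x40)
 Net.nil))

noncomputable def MubH1_2_n_5 : Net :=
 (Net.cons 1 (nat_lit 0x20)
 (Net.cons 1 (nat_lit 0x8)
 Net.nil))

noncomputable def MubH1_2_n_8 : Net :=
 (Net.cons 5 (nat_lit 0x18)
 (Net.cons 1 (nat_lit 0x80)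
 (Net.cons 1 (nat_lit 0x140)
 (Net.cons 1 (nat_lit 0xa0)
 (Net.cons 1 (nat_lit 0x140)
 (Net.cons 1 (nat_lit 0x80)
 (Net.cons 5 (nat_lit 0x18)
 Net.nil)))))))

noncomputable def MubH1_2_n : List Net := [Net.nil,
 Net.nil,
 MubH1_2_n_2,
 MubH1_2_n_3,
 MubH1_2_n_4,
 MubH1_2_n_5,
 Net.nil,
 Net.nil,
 MubH1_2_n_8]

theorem MubH1_2_n_ok : NetsOK 10 MubH1_2_n := netsOK_of (by decide +kernel)

theorem MubH1_2_n_rel : Rels (gp MubH1_2_n) MubH1_2_R := rels_of_relsB (k := 4) MubH1_2_n_ok (by norm_num) (by decide +kernel)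

theorem MubH1_2_fin : finB 10 MubH1_2_n [2,3,4,5,8] 10 (runH 10 MubH1_2_n (fun x p => ptInv (nth Net.nil MubH1_2_n x) p) iv MubH1_2_R [] ([3,4,5,8].map fun x => [x]) 0 []
  [1,5,9,13,0,4,8,12,16,20,24,28,32,36,40,44,48,52,56,24,36,44,48,20,24,32,40,28]
  (defsH 10 MubH1_2_n (ones 100) [2,3,4,5,8,4,3,2] (Nat.shiftLeft 1 0) 0)) = true := by decide +kernel

theorem MubH1_2_idx : Idx.{u} iv (MubH1_2_R ++ []) ([3,4,5,8].map fun x => [x]) [2,3,4,5,8] 10 :=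
  Reach.idx MubH1_2_n_ok (reach_runH MubH1_2_n_ok (fun x p _ => ptInv_gp MubH1_2_n_ok x p) MubH1_2_n_rel (reach_defsH MubH1_2_n_ok _ _ _ _ _ _) _ _) MubH1_2_fin (by norm_num)

end Cfsg.Lib.Comp.Fi22
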