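import Cfsg.Agent.Lib.Comp.Fi22.Base

set_option maxRecDepth 100000

namespace Cfsg.Lib.Comp.Fi22

universe u

noncomputable def MubH1_4_R : List (List ℕ × ℕ) := [([3],1),
 ([4],1),
 ([5],1),
 ([3,4],2),
 ([3,5],1),
 ([4,5],2)]

noncomputable def MubH1_4_n_3 : Net :=
 (Net.cons 1 (nat_lit 0x4)
 Net.nil)

noncomputable def MubH1_4_n_4 : Net :=
 (Net.cons 2 (nat_lit 0x2)
 (Net.cons 1 (nat_lit 0x4)
 (Net.cons 2 (nat_lit 0x2)
 Net.nil)))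

noncomputable def MubH1_4_n_5 : Net :=
 (Net.cons 1 (nat_lit 0x1)
 Net.nil)

noncomputable def MubH1_4_n : List Net := [Net.nil,
 Net.nil,
 Net.nil,
 MubH1_4_n_3,
 MubH1_4_n_4,
 MubH1_4_n_5]

theorem MubH1_4_n_ok : NetsOK 4 MubH1_4_n := netsOK_of (by decide +kernel)

theorem MubH1_4_n_rel : Rels (gp MubH1_4_n) MubH1_4_R := rels_of_relsB (k := 2) MubH1_4_n_ok (by norm_num) (by decide +kernel)

theorem MubH1_4_fin : finB 4 MubH1_4_n [3,4,5] 4 (runH 4 MubH1_4_n (fun x p => ptInv (nth Net.nil MubH1_4_n x) p) iv MubH1_4_R [] ([3,4].map fun x => [x]) 0 []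
  [1,5,0,4,8,16,20,12,16]
  (defsH 4 MubH1_4_n (ones 40) [5,4,3] (Nat.shiftLeft 1 0) 0)) = true := by decide +kernel

theorem MubH1_4_idx : Idx.{u} iv (MubH1_4_R ++ []) ([3,4].map fun x => [x]) [3,4,5] 4 :=
  Reach.idx MubH1_4_n_ok (reach_runH MubH1_4_n_ok (fun x p _ => ptInv_gp MubH1_4_n_ok x p) MubH1_4_n_rel (reach_defsH MubH1_4_n_ok _ _ _ _ _ _) _ _) MubH1_4_fin (by norm_num)

end Cfsg.Lib.Comp.Fi22
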