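import Cfsg.Agent.Lib.Comp.Fi22.MubH0_0
import Cfsg.Agent.Lib.Comp.Fi22.MubH0_1
import Cfsg.Agent.Lib.Comp.Fi22.MubH0_2
import Cfsg.Agent.Lib.Comp.Fi22.MubH0_3
import Cfsg.Agent.Lib.Comp.Fi22.MubH0_4
import Cfsg.Agent.Lib.Comp.Fi22.MubH1_0
import Cfsg.Agent.Lib.Comp.Fi22.MubH1_1
import Cfsg.Agent.Lib.Comp.Fi22.MubH1_2
import Cfsg.Agent.Lib.Comp.Fi22.MubH1_3
import Cfsg.Agent.Lib.Comp.Fi22.MubH1_4
import Cfsg.Agent.Lib.Comp.Fi22.MubH1_5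
import Cfsg.Agent.Lib.Comp.Fi22.MubH1_6
import Cfsg.Agent.Lib.Comp.Fi22.Mub0
import Cfsg.Agent.Lib.Comp.Fi22.Main
import Cfsg.Agent.Lib.Comp.Cover

set_option maxRecDepth 100000

namespace Cfsg.Lib.Comp.Fi22

universe u

theorem MubH0_4_ord : Ord.{u} iv MubH0_4_R [3] 2 :=
  (MubH0_4_idx.ord_base).of_cons (cons_of_subset (by decide +kernel))

theorem MubH0_3_ord : Ord.{u} iv MubH0_3_R [3,4] 6 :=
  (MubH0_3_idx.ord_step MubH0_4_ord).of_cons (cons_of_subset (by decide +kernel))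

theorem MubH0_2_ord : Ord.{u} iv MubH0_2_R [3,4,5] 24 :=
  (MubH0_2_idx.ord_step MubH0_3_ord).of_cons (cons_of_subset (by decide +kernel))

theorem MubH0_1_ord : Ord.{u} iv MubH0_1_R [3,4,5,8] 192 :=
  (MubH0_1_idx.ord_step MubH0_2_ord).of_cons (cons_of_subset (by decide +kernel))

theorem MubH0_0_ord : Ord.{u} iv MubH0_0_R [2,3,4,5,8] 1920 :=
  (MubH0_0_idx.ord_step MubH0_1_ord).of_cons (cons_of_subset (by decide +kernel))

noncomputable def MubH0_lb_n_2 : Net :=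
 (Net.cons 5 (nat_lit 0x18)
 (Net.cons 1 (nat_lit 0x80)
 (Net.cons 1 (nat_lit 0x140)
 (Net.cons 1 (nat_lit 0xa0)
 (Net.cons 1 (nat_lit 0x140)
 (Net.cons 1 (nat_lit 0x80)
 (Net.cons 5 (nat_lit 0x18)
 Net.nil)))))))

noncomputable def MubH0_lb_n_3 : Net :=
 (Net.cons 5 (nat_lit 0x10)
 (Net.cons 1 (nat_lit 0x84)
 (Net.cons 1 (nat_lit 0x100)
 (Net.cons 1 (nat_lit 0x80)
 (Net.cons 5 (nat_lit 0x10)
 Net.nil)))))

noncomputable def MubH0_lb_n_4 : Net :=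
 (Net.cons 1 (nat_lit 0x80)
 (Net.cons 1 (nat_lit 0x2)
 Net.nil))

noncomputable def MubH0_lb_n_5 : Net :=
 (Net.cons 1 (nat_lit 0x1)
 (Net.cons 1 (nat_lit 0x100)
 Net.nil))

noncomputable def MubH0_lb_n_8 : Net :=
 (Net.cons 5 (nat_lit 0x18)
 (Net.cons 1 (nat_lit 0x4)
 (Net.cons 1 (nat_lit 0xa)
 (Net.cons 1 (nat_lit 0x5)
 (Net.cons 1 (nat_lit 0xa)
 (Net.cons 1 (nat_lit 0x4)
 (Net.cons 5 (nat_lit 0x18)
 Net.nil)))))))

noncomputable def MubH0_lb_n_64 : Net :=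
 (Net.cons 5 (nat_lit 0x4)
 (Net.cons 1 (nat_lit 0x80)
 (Net.cons 1 (nat_lit 0x2)
 (Net.cons 5 (nat_lit 0x4)
 Net.nil))))

noncomputable def MubH0_lb_n_65 : Net :=
 (Net.cons 5 (nat_lit 0x8)
 (Net.cons 1 (nat_lit 0x84)
 (Net.cons 1 (nat_lit 0x8)
 (Net.cons 1 (nat_lit 0x4)
 (Net.cons 5 (nat_lit 0x8)
 Net.nil)))))

noncomputable def MubH0_lb_n_66 : Net :=
 (Net.cons 5 (nat_lit 0x18)
 (Net.cons 1 (nat_lit 0xa0)
 (Net.cons 1 (nat_lit 0x140)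
 (Net.cons 1 (nat_lit 0xa0)
 (Net.cons 1 (nat_lit 0x140)
 (Net.cons 1 (nat_lit 0xa0)
 (Net.cons 5 (nat_lit 0x18)
 Net.nil)))))))

noncomputable def MubH0_lb_n : List Net := (apd [Net.nil,
 Net.nil,
 MubH0_lb_n_2,
 MubH0_lb_n_3,
 MubH0_lb_n_4,
 MubH0_lb_n_5,
 Net.nil,
 Net.nil,
 MubH0_lb_n_8,
 Net.nil,
 Net.nil,
 Net.nil,
 Net.nil,
 Net.nil,
 Net.nil,
 Net.nil,
 Net.nil,
 Net.nil,
 Net.nil,
 Net.nil,
 Net.nil,
 Net.nil,
 Net.nil,
 Net.nil,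
 Net.nil,
 Net.nil,
 Net.nil,
 Net.nil,
 Net.nil,
 Net.nil,
 Net.nil,
 Net.nil,
 Net.nil,
 Net.nil,
 Net.nil,
 Net.nil,
 Net.nil,
 Net.nil,
 Net.nil,
 Net.nil]
 [Net.nil,
 Net.nil,
 Net.nil,
 Net.nil,
 Net.nil,
 Net.nil,
 Net.nil,
 Net.nil,
 Net.nil,
 Net.nil,
 Net.nil,
 Net.nil,
 Net.nil,
 Net.nil,
 Net.nil,
 Net.nil,
 Net.nil,
 Net.nil,
 Net.nil,
 Net.nil,
 Net.nil,
 Net.nil,
 Net.nil,
 Net.nil,
 MubH0_lb_n_64,
 MubH0_lb_n_65,
 MubH0_lb_n_66])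

theorem MubH0_lb_n_ok : NetsOK 10 MubH0_lb_n := netsOK_of (by decide +kernel)

theorem MubH0_lb : 1920 ≤ Nat.card (cl (gp nets) [2,3,4,5,8]) :=
  lb_of_itwB (k := 4) (n := 10) nets_ok MubH0_lb_n_ok (by norm_num) (by norm_num) (tbA_pt nets_ok) (tbA_pt MubH0_lb_n_ok) (φ := look2 (nat_lit 0x6d9006a10086300bf000cc70093b00a1200794006d7006a0) 20 64) (by decide +kernel) (by
    rw [← cl_eq_of_slpB (k := 4) (D := [(64,[5,8,4,8,5]),
 (65,[64,3,4,3,64]),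
 (66,[3,2,65,2,3])]) MubH0_lb_n_ok (by norm_num) (by decide +kernel)]
    exact lb_of_chainB MubH0_lb_n_ok (C := [([2,3,4,64,65,66],[5,8,4,3,2],0,0,10),
 ([2,3,65,66],[4,64,3,2],1,1,8),
 ([2,66],[3,65,2],2,2,6),
 ([],[2,66],3,3,4)]) (by decide +kernel))

theorem MubH1_6_ord : Ord.{u} iv MubH1_6_R [3] 2 :=
  (MubH1_6_idx.ord_base).of_cons (cons_of_subset (by decide +kernel))

theorem MubH1_5_ord : Ord.{u} iv MubH1_5_R [3,4] 6 :=
  (MubH1_5_idx.ord_step MubH1_6_ord).of_cons (cons_of_subset (by decide +kernel))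

theorem MubH1_4_ord : Ord.{u} iv MubH1_4_R [3,4,5] 24 :=
  (MubH1_4_idx.ord_step MubH1_5_ord).of_cons (cons_of_subset (by decide +kernel))

theorem MubH1_3_ord : Ord.{u} iv MubH1_3_R [3,4,5,8] 192 :=
  (MubH1_3_idx.ord_step MubH1_4_ord).of_cons (cons_of_subset (by decide +kernel))

theorem MubH1_2_ord : Ord.{u} iv MubH1_2_R [2,3,4,5,8] 1920 :=
  (MubH1_2_idx.ord_step MubH1_3_ord).of_cons (cons_of_subset (by decide +kernel))

theorem MubH1_1_ord : Ord.{u} iv MubH1_1_R [2,3,4,5,6,8] 51840 :=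
  (MubH1_1_idx.ord_step MubH1_2_ord).of_cons (cons_of_subset (by decide +kernel))

theorem MubH1_0_ord : Ord.{u} iv MubH1_0_R [1,2,3,4,5,6,8] 1451520 :=
  (MubH1_0_idx.ord_step MubH1_1_ord).of_cons (cons_of_subset (by decide +kernel))

noncomputable def MubH1_lb_n_1 : Net :=
 (Net.cons 32 (nat_lit 0x400)
 (Net.cons 16 (nat_lit 0x400)
 (Net.cons 8 (nat_lit 0x40000007c)
 (Net.cons 4 (nat_lit 0xe080c08)
 (Net.cons 2 (nat_lit 0x20020000)
 (Net.cons 1 (nat_lit 0x11011404)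
 (Net.cons 2 (nat_lit 0x103022300)
 (Net.cons 4 (nat_lit 0xc080e08)
 (Net.cons 8 (nat_lit 0x400780004)
 (Net.cons 16 (nat_lit 0xff7e)
 (Net.cons 32 (nat_lit 0x400)
 Net.nil)))))))))))

noncomputable def MubH1_lb_n_2 : Net :=
 (Net.cons 32 (nat_lit 0xfffc0000)
 (Net.cons 16 (nat_lit 0x555400000000)
 (Net.cons 1 (nat_lit 0x5554555500000001)
 (Net.cons 2 (nat_lit 0x333300000000)
 (Net.cons 4 (nat_lit 0x90900000000)
 (Net.cons 8 (nat_lit 0x8100000000)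
 (Net.cons 16 (nat_lit 0x555400000000)
 (Net.cons 32 (nat_lit 0xfffc0000)
 Net.nil))))))))

noncomputable def MubH1_lb_n_3 : Net :=
 (Net.cons 16 (nat_lit 0x55000000f800)
 (Net.cons 8 (nat_lit 0x80000000800000)
 (Net.cons 4 (nat_lit 0x60c0000)
 (Net.cons 2 (nat_lit 0x20020002)
 (Net.cons 1 (nat_lit 0x5500550015440004)
 (Net.cons 2 (nat_lit 0x3300000020200002)
 (Net.cons 4 (nat_lit 0x900000006030000)
 (Net.cons 8 (nat_lit 0x80000000c80000)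
 (Net.cons 16 (nat_lit 0x55000000f800)
 Net.nil)))))))))

noncomputable def MubH1_lb_n_4 : Net :=
 (Net.cons 32 (nat_lit 0x200000)
 (Net.cons 16 (nat_lit 0x2000000000)
 (Net.cons 8 (nat_lit 0xc600c40000)
 (Net.cons 4 (nat_lit 0x40600040200)
 (Net.cons 2 (nat_lit 0x202002200000)
 (Net.cons 1 (nat_lit 0x411504141504)
 (Net.cons 2 (nat_lit 0x202002200300)
 (Net.cons 4 (nat_lit 0x40600040200)
 (Net.cons 8 (nat_lit 0xf00c600c40000)
 (Net.cons 16 (nat_lit 0x2000000000)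
 (Net.cons 32 (nat_lit 0x200000)
 Net.nil)))))))))))

noncomputable def MubH1_lb_n_5 : Net :=
 (Net.cons 16 (nat_lit 0x2000)
 (Net.cons 8 (nat_lit 0x80000000b00098)
 (Net.cons 4 (nat_lit 0x804000000020000)
 (Net.cons 2 (nat_lit 0x20000000002220)
 (Net.cons 1 (nat_lit 0x44000000011110)
 (Net.cons 2 (nat_lit 0x220011022002220)
 (Net.cons 4 (nat_lit 0x904020805020900)
 (Net.cons 8 (nat_lit 0x80000000b00098)
 (Net.cons 16 (nat_lit 0x2000)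
 Net.nil)))))))))

noncomputable def MubH1_lb_n_6 : Net :=
 (Net.cons 16 (nat_lit 0xc000)
 (Net.cons 8 (nat_lit 0xc00000)
 (Net.cons 4 (nat_lit 0xc0c0c00)
 (Net.cons 2 (nat_lit 0x202202020202000)
 (Net.cons 1 (nat_lit 0x1404444414101510)
 (Net.cons 2 (nat_lit 0x212202020212000)
 (Net.cons 4 (nat_lit 0xc0c0c00)
 (Net.cons 8 (nat_lit 0xc00000)
 (Net.cons 16 (nat_lit 0xc000)
 Net.nil)))))))))

noncomputable def MubH1_lb_n_8 : Net :=
 (Net.cons 32 (nat_lit 0xb6000000)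
 (Net.cons 16 (nat_lit 0x278000000000)
 (Net.cons 8 (nat_lit 0xb000000070)
 (Net.cons 4 (nat_lit 0x40008020a000000)
 (Net.cons 2 (nat_lit 0x2002000000)
 (Net.cons 1 (nat_lit 0x5500451154000000)
 (Net.cons 2 (nat_lit 0x3000032002000000)
 (Net.cons 4 (nat_lit 0x40008020a000708)
 (Net.cons 8 (nat_lit 0xb000000070)
 (Net.cons 16 (nat_lit 0x278000000000)
 (Net.cons 32 (nat_lit 0xb6000000)
 Net.nil)))))))))))

noncomputable def MubH1_lb_n_64 : Net :=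
 (Net.cons 16 (nat_lit 0xa05000000e08)
 (Net.cons 8 (nat_lit 0x800d0)
 (Net.cons 4 (nat_lit 0x60800080c040c)
 (Net.cons 2 (nat_lit 0x2000000020002)
 (Net.cons 1 (nat_lit 0x4404504040440144)
 (Net.cons 2 (nat_lit 0x12000000021002)
 (Net.cons 4 (nat_lit 0xc060800080c0c0c)
 (Net.cons 8 (nat_lit 0x800d0)
 (Net.cons 16 (nat_lit 0xe85800000e08)
 Net.nil)))))))))

noncomputable def MubH1_lb_n_65 : Net :=
 (Net.cons 32 (nat_lit 0x100000)
 (Net.cons 16 (nat_lit 0x403000008060)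
 (Net.cons 8 (nat_lit 0x4000c000800088)
 (Net.cons 4 (nat_lit 0x60002020400)
 (Net.cons 2 (nat_lit 0x2000202200000200)
 (Net.cons 1 (nat_lit 0x4505154451450104)
 (Net.cons 2 (nat_lit 0x2010202230001220)
 (Net.cons 4 (nat_lit 0x60902020600)
 (Net.cons 8 (nat_lit 0x4c00c000800088)
 (Net.cons 16 (nat_lit 0x403000008060)
 (Net.cons 32 (nat_lit 0x100000)
 Net.nil)))))))))))

noncomputable def MubH1_lb_n_66 : Net :=
 (Net.cons 32 (nat_lit 0x10900000)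
 (Net.cons 16 (nat_lit 0xff0000001090)
 (Net.cons 8 (nat_lit 0x90008000e8)
 (Net.cons 4 (nat_lit 0x4020a0808000000)
 (Net.cons 2 (nat_lit 0x2020020000000000)
 (Net.cons 1 (nat_lit 0x4110114045105500)
 (Net.cons 2 (nat_lit 0x3122200021203320)
 (Net.cons 4 (nat_lit 0xb06050907010600)
 (Net.cons 8 (nat_lit 0x90003100e8)
 (Net.cons 16 (nat_lit 0xff0000001090)
 (Net.cons 32 (nat_lit 0x10900000)
 Net.nil)))))))))))

noncomputable def MubH1_lb_n_67 : Net :=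
 (Net.cons 32 (nat_lit 0x80000000)
 (Net.cons 16 (nat_lit 0xe00000008000)
 (Net.cons 8 (nat_lit 0xe000000000)
 (Net.cons 4 (nat_lit 0xc0008080000)
 (Net.cons 2 (nat_lit 0x20200202020220)
 (Net.cons 1 (nat_lit 0x4444145111111440)
 (Net.cons 2 (nat_lit 0x20203202020220)
 (Net.cons 4 (nat_lit 0xc0908080000)
 (Net.cons 8 (nat_lit 0xe000810000)
 (Net.cons 16 (nat_lit 0xe00000008000)
 (Net.cons 32 (nat_lit 0x80000000)
 Net.nil)))))))))))

noncomputable def MubH1_lb_n : List Net := (apd [Net.nil,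
 MubH1_lb_n_1,
 MubH1_lb_n_2,
 MubH1_lb_n_3,
 MubH1_lb_n_4,
 MubH1_lb_n_5,
 MubH1_lb_n_6,
 Net.nil,
 MubH1_lb_n_8,
 Net.nil,
 Net.nil,
 Net.nil,
 Net.nil,
 Net.nil,
 Net.nil,
 Net.nil,
 Net.nil,
 Net.nil,
 Net.nil,
 Net.nil,
 Net.nil,
 Net.nil,
 Net.nil,
 Net.nil,
 Net.nil,
 Net.nil,
 Net.nil,
 Net.nil,
 Net.nil,
 Net.nil,
 Net.nil,
 Net.nil,
 Net.nil,
 Net.nil,
 Net.nil,
 Net.nil,
 Net.nil,
 Net.nil,
 Net.nil,
 Net.nil]
 [Net.nil,
 Net.nil,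
 Net.nil,
 Net.nil,
 Net.nil,
 Net.nil,
 Net.nil,
 Net.nil,
 Net.nil,
 Net.nil,
 Net.nil,
 Net.nil,
 Net.nil,
 Net.nil,
 Net.nil,
 Net.nil,
 Net.nil,
 Net.nil,
 Net.nil,
 Net.nil,
 Net.nil,
 Net.nil,
 Net.nil,
 Net.nil,
 MubH1_lb_n_64,
 MubH1_lb_n_65,
 MubH1_lb_n_66,
 MubH1_lb_n_67])

theorem MubH1_lb_n_ok : NetsOK 64 MubH1_lb_n := netsOK_of (by decide +kernel)

theorem MubH1_lb : 1451520 ≤ Nat.card (cl (gp nets) [1,2,3,4,5,6,8]) :=
  lb_of_itwB (k := 6) (n := 63) nets_ok MubH1_lb_n_ok (by norm_num) (by norm_num) (tbA_pt nets_ok) (tbA_pt MubH1_lb_n_ok) (φ := look2 (nat_lit 0xb0d00b5200b5100b0e00b5000b4f00b2000b1f00b4800b0100b4b00b1800b0300b0200b0a00b9400c2a00c2900b9600c2800c2700bf800bf700c5b00c0800c0700bef00c6c00c6b00b7f008df0097500974008e100973009720094300942009a600953009520093a009b7009b6008ca006920081f008620081e0080600873008720079b007f5007f40080f0079d007f3007f20080e007860000100000)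 20 64) (by decide +kernel) (by
    rw [← cl_eq_of_slpB (k := 6) (D := [(64,[2,1,3,2,4,5,8,4,3,4,8,5,4,2,3,1,2]),
 (65,[3,4,8,64,5,4,3,1]),
 (66,[4,65,5,8,4]),
 (67,[66,8,5])]) MubH1_lb_n_ok (by norm_num) (by decide +kernel)]
    exact lb_of_chainB MubH1_lb_n_ok (C := [([1,3,4,5,6,8,64,65,66,67],[2,1,3,64,4,6,2,5,65,3,4,5,6],0,0,63),
 ([4,5,6,8,65,66,67],[1,3,64,4,6,5,65],1,1,32),
 ([5,6,8,66,67],[4,65,5,6,65,66,6],2,2,15),
 ([6,67],[5,8,6,66],3,3,8),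
 ([67],[6,67],4,4,3),
 ([],[67],5,5,2)]) (by decide +kernel))

theorem Mub_mb : MB (cl (gp nets) L) 45045 3 :=
  mb_cyc (w := 39) (n := 48) (La := L) (ix := nth 0 [0,0,1,2,3,4,5,6,7,8]) (by norm_num) (by norm_num) (nets_iv.sval _) (nets_rel.sval fun r hr x hx => mem_cl (sub_of_allR (by decide +kernel) r hr x hx)) (by decide +kernel)
    (TStep.trans (TStep.trans (TStep.trans (TStep.trans (TStep.trans (TStep.trans (TStep.trans (TStep.repar (k' := 39) (by norm_num) (by norm_num) (by decide +kernel) (by decide +kernel) Mub1_b)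
    (TStep.enum0 (by norm_num) (by norm_num) Mub2_0 (Gs := Mub2G) (by decide +kernel)))
    (TStep.repar (k' := 3) (by norm_num) (by norm_num) (by decide +kernel) (by decide +kernel) Mub3_b))
    (TStep.enum (by norm_num) (by norm_num) Mub4_0 (I := [1,2,3,4,7,17,18,19,22,24,25,28,30,33,37]) (by decide +kernel) (by decide +kernel) MubH0_0_ord (c := 1) (lb_sval (fun _ hx => mem_cl (sub_of_subB (by decide +kernel) _ hx)) MubH0_lb (by norm_num)) (Gs := Mub4G) (by decide +kernel)))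
    (TStep.repar (k' := 2) (by norm_num) (by norm_num) (by decide +kernel) (by decide +kernel) Mub5_b))
    (TStep.enum (by norm_num) (by norm_num) Mub6_0 (I := [0,1,2,3,4,5,7,9,10,11,12,13,15,17,18,19,20,22,24,25,26,28,30,31,33,35,37,40,46]) (by decide +kernel) (by decide +kernel) MubH1_0_ord (c := 1) (lb_sval (fun _ hx => mem_cl (sub_of_subB (by decide +kernel) _ hx)) MubH1_lb (by norm_num)) (Gs := Mub6G) (by decide +kernel)))
    (TStep.repar (k' := 1) (by norm_num) (by norm_num) (by decide +kernel) (by decide +kernel) Mub7_b))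
    (TStep.cons (by norm_num) (by norm_num) (c := (nat_lit 0x1)) (v := 3) (by decide +kernel) (by decide +kernel)))
    (by norm_num) List.mem_cons_self (by norm_num)
    (TStep.repar (k' := 0) (by norm_num) (by norm_num) (by decide +kernel) (by decide +kernel) Mub9_b)
    (L := [1,2,3,4,5,6,7,8,9]) (I := [0,1,2,3,4,5,6,7,8,9,10,11,12,13,14,15,16,17,18,19,20,21,22,23,24,25,26,27,28,29,30,31,32,33,34,35,36,37,38,39,40,41,42,43,44,45,46,47]) (by decide +kernel) (by decide +kernel) ord card.ge (cl_sval_top _ _)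

end Cfsg.Lib.Comp.Fi22
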