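import Cfsg.Agent.Lib.Comp.Fi22.Base

set_option maxRecDepth 100000

namespace Cfsg.Lib.Comp.Fi22

universe u

noncomputable def T2_R : List (List ℕ × ℕ) := [([2],1),
 ([3],1),
 ([4],1),
 ([5],1),
 ([6],1),
 ([7],1),
 ([8],1),
 ([2,3],2),
 ([2,4],1),
 ([2,5],1),
 ([2,6],1),
 ([2,7],1),
 ([2,8],1),
 ([3,4],2),
 ([3,5],1),
 ([3,6],1),
 ([3,7],1),
 ([3,8],1),
 ([4,5],2),
 ([4,6],1),
 ([4,7],1),
 ([4,8],2),
 ([5,6],2),
 ([5,7],1),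
 ([5,8],1),
 ([6,7],2),
 ([6,8],1),
 ([7,8],1),
 ([2,3,4,5,6,7,8],8)]

noncomputable def T2_n_2 : Net :=
 (Net.cons 16 (nat_lit 0x8000)
 (Net.cons 8 (nat_lit 0x800000)
 (Net.cons 4 (nat_lit 0xc0000)
 (Net.cons 2 (nat_lit 0x200000)
 (Net.cons 1 (nat_lit 0x400500)
 (Net.cons 2 (nat_lit 0x221020)
 (Net.cons 4 (nat_lit 0xc0000)
 (Net.cons 8 (nat_lit 0x800000)
 (Net.cons 16 (nat_lit 0x8000)
 Net.nil)))))))))

noncomputable def T2_n_3 : Net :=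
 (Net.cons 16 (nat_lit 0x4000)
 (Net.cons 8 (nat_lit 0x600040)
 (Net.cons 4 (nat_lit 0x2060c00)
 (Net.cons 1 (nat_lit 0x1100010)
 (Net.cons 2 (nat_lit 0x12100)
 (Net.cons 4 (nat_lit 0x2060c00)
 (Net.cons 8 (nat_lit 0x600040)
 (Net.cons 16 (nat_lit 0x4000)
 Net.nil))))))))

noncomputable def T2_n_4 : Net :=
 (Net.cons 4 (nat_lit 0x8)
 (Net.cons 2 (nat_lit 0x20020)
 (Net.cons 1 (nat_lit 0x10010)
 (Net.cons 2 (nat_lit 0x1120320)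
 (Net.cons 4 (nat_lit 0x8)
 Net.nil)))))

noncomputable def T2_n_5 : Net :=
 (Net.cons 16 (nat_lit 0x2000)
 (Net.cons 8 (nat_lit 0x600000)
 (Net.cons 4 (nat_lit 0xc020400)
 (Net.cons 2 (nat_lit 0x2000000)
 (Net.cons 1 (nat_lit 0x44010404)
 (Net.cons 2 (nat_lit 0x2001000)
 (Net.cons 4 (nat_lit 0xc020400)
 (Net.cons 8 (nat_lit 0x600000)
 (Net.cons 16 (nat_lit 0x2000)
 Net.nil)))))))))

noncomputable def T2_n_6 : Net :=
 (Net.cons 16 (nat_lit 0x4000)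
 (Net.cons 8 (nat_lit 0x480000)
 (Net.cons 4 (nat_lit 0x8040000)
 (Net.cons 2 (nat_lit 0x22002)
 (Net.cons 1 (nat_lit 0x40041004)
 (Net.cons 2 (nat_lit 0x22002)
 (Net.cons 4 (nat_lit 0x80d0000)
 (Net.cons 8 (nat_lit 0x480000)
 (Net.cons 16 (nat_lit 0x4000)
 Net.nil)))))))))

noncomputable def T2_n_7 : Net :=
 (Net.cons 16 (nat_lit 0x8000)
 (Net.cons 8 (nat_lit 0xd00000)
 (Net.cons 4 (nat_lit 0x80000)
 (Net.cons 1 (nat_lit 0x40001)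
 (Net.cons 2 (nat_lit 0x2000000)
 (Net.cons 4 (nat_lit 0x50a0000)
 (Net.cons 8 (nat_lit 0xd00000)
 (Net.cons 16 (nat_lit 0x8000)
 Net.nil))))))))

noncomputable def T2_n_8 : Net :=
 (Net.cons 8 (nat_lit 0x4000a0)
 (Net.cons 4 (nat_lit 0x8000200)
 (Net.cons 2 (nat_lit 0x2000000)
 (Net.cons 1 (nat_lit 0x44000100)
 (Net.cons 2 (nat_lit 0x2002010)
 (Net.cons 4 (nat_lit 0x8080200)
 (Net.cons 8 (nat_lit 0x4000a0)
 Net.nil)))))))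

noncomputable def T2_n : List Net := [Net.nil,
 Net.nil,
 T2_n_2,
 T2_n_3,
 T2_n_4,
 T2_n_5,
 T2_n_6,
 T2_n_7,
 T2_n_8]

theorem T2_n_ok : NetsOK 32 T2_n := netsOK_of (by decide +kernel)

theorem T2_n_rel : Rels (gp T2_n) T2_R := rels_of_relsB (k := 5) T2_n_ok (by norm_num) (by decide +kernel)

theorem T2_fin : finB 32 T2_n [2,3,4,5,6,7,8] 28 (runH 32 T2_n (fun x p => ptInv (nth Net.nil T2_n x) p) iv T2_R [] ([2,3,4,5,6,8].map fun x => [x]) 0 []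
  (apd [1,5,9,13,17,21,0,4,8,12,16,20,24,32,36,40,44,56,60,64,68,76,80,92,100,108,40,48,60,76,88,92,104,36,56,72,76,80,96,104,108,32,48,52,56,60,64,72,76,80,84,88,92,96,100,104,108,28,32,36]
 [40,44,48,52,56,60,64,68,72,76,80,88,100,28,32,36,40,112,24,96])
  (defsH 32 T2_n (ones 320) [7,6,5,4,8,3,4,5,6,7,2,3,4,5,6] (Nat.shiftLeft 1 0) 0)) = true := by decide +kernel

theorem T2_idx : Idx.{u} iv (T2_R ++ []) ([2,3,4,5,6,8].map fun x => [x]) [2,3,4,5,6,7,8] 28 :=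
  Reach.idx T2_n_ok (reach_runH T2_n_ok (fun x p _ => ptInv_gp T2_n_ok x p) T2_n_rel (reach_defsH T2_n_ok _ _ _ _ _ _) _ _) T2_fin (by norm_num)

end Cfsg.Lib.Comp.Fi22
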