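import Cfsg.Agent.Lib.Comp.Fi22.Base

set_option maxRecDepth 100000

namespace Cfsg.Lib.Comp.Fi22

universe u

noncomputable def T3_R : List (List ℕ × ℕ) := [([2],1),
 ([3],1),
 ([4],1),
 ([5],1),
 ([6],1),
 ([8],1),
 ([2,3],2),
 ([2,4],1),
 ([2,5],1),
 ([2,6],1),
 ([2,8],1),
 ([3,4],2),
 ([3,5],1),
 ([3,6],1),
 ([3,8],1),
 ([4,5],2),
 ([4,6],1),
 ([4,8],2),
 ([5,6],2),
 ([5,8],1),
 ([6,8],1)]

noncomputable def T3_n_2 : Net :=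
 (Net.cons 4 (nat_lit 0x400)
 (Net.cons 2 (nat_lit 0x2000)
 (Net.cons 1 (nat_lit 0x51401)
 (Net.cons 2 (nat_lit 0x102000)
 (Net.cons 4 (nat_lit 0x400)
 Net.nil)))))

noncomputable def T3_n_3 : Net :=
 (Net.cons 16 (nat_lit 0x2000)
 (Net.cons 8 (nat_lit 0x280000)
 (Net.cons 4 (nat_lit 0x8020400)
 (Net.cons 2 (nat_lit 0x2)
 (Net.cons 1 (nat_lit 0x410004)
 (Net.cons 2 (nat_lit 0x20001202)
 (Net.cons 4 (nat_lit 0x8020400)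
 (Net.cons 8 (nat_lit 0x280000)
 (Net.cons 16 (nat_lit 0x2000)
 Net.nil)))))))))

noncomputable def T3_n_4 : Net :=
 (Net.cons 8 (nat_lit 0x800080)
 (Net.cons 4 (nat_lit 0x8000800)
 (Net.cons 2 (nat_lit 0x2000000)
 (Net.cons 1 (nat_lit 0x1000004)
 (Net.cons 2 (nat_lit 0x2030300)
 (Net.cons 4 (nat_lit 0x8000800)
 (Net.cons 8 (nat_lit 0x800080)
 Net.nil)))))))

noncomputable def T3_n_5 : Net :=
 (Net.cons 16 (nat_lit 0x9000)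
 (Net.cons 8 (nat_lit 0x900000)
 (Net.cons 4 (nat_lit 0x8040a)
 (Net.cons 2 (nat_lit 0x2020)
 (Net.cons 1 (nat_lit 0x1004010)
 (Net.cons 2 (nat_lit 0x22022)
 (Net.cons 4 (nat_lit 0x9040a)
 (Net.cons 8 (nat_lit 0x900000)
 (Net.cons 16 (nat_lit 0x9000)
 Net.nil)))))))))

noncomputable def T3_n_6 : Net :=
 (Net.cons 8 (nat_lit 0xd8)
 (Net.cons 4 (nat_lit 0x80c)
 (Net.cons 2 (nat_lit 0x2000020)
 (Net.cons 1 (nat_lit 0x4000514)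
 (Net.cons 2 (nat_lit 0x2001320)
 (Net.cons 4 (nat_lit 0x80c)
 (Net.cons 8 (nat_lit 0xd8)
 Net.nil)))))))

noncomputable def T3_n_8 : Net :=
 (Net.cons 8 (nat_lit 0x40)
 (Net.cons 4 (nat_lit 0x40402)
 (Net.cons 2 (nat_lit 0x20)
 (Net.cons 1 (nat_lit 0x40010)
 (Net.cons 2 (nat_lit 0x300122)
 (Net.cons 4 (nat_lit 0x40402)
 (Net.cons 8 (nat_lit 0x40)
 Net.nil)))))))

noncomputable def T3_n : List Net := [Net.nil,
 Net.nil,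
 T3_n_2,
 T3_n_3,
 T3_n_4,
 T3_n_5,
 T3_n_6,
 Net.nil,
 T3_n_8]

theorem T3_n_ok : NetsOK 32 T3_n := netsOK_of (by decide +kernel)

theorem T3_n_rel : Rels (gp T3_n) T3_R := rels_of_relsB (k := 5) T3_n_ok (by norm_num) (by decide +kernel)

theorem T3_fin : finB 32 T3_n [2,3,4,5,6,8] 27 (runH 32 T3_n (fun x p => ptInv (nth Net.nil T3_n x) p) iv T3_R [] ([3,4,5,6,8].map fun x => [x]) 0 []
  [1,5,9,13,17,0,4,8,12,16,20,24,28,32,36,40,44,48,52,56,60,64,68,72,76,80,28,32,44,56,60,64,68,72,76,24,28,32,40,44,48,52,56,60,64,68,76,80,24,28,32,36,52,64,72]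
  (defsH 32 T3_n (ones 320) [2,3,4,5,6,8,4,5,3,4,8,2,3,4,5,6] (Nat.shiftLeft 1 0) 0)) = true := by decide +kernel

theorem T3_idx : Idx.{u} iv (T3_R ++ []) ([3,4,5,6,8].map fun x => [x]) [2,3,4,5,6,8] 27 :=
  Reach.idx T3_n_ok (reach_runH T3_n_ok (fun x p _ => ptInv_gp T3_n_ok x p) T3_n_rel (reach_defsH T3_n_ok _ _ _ _ _ _) _ _) T3_fin (by norm_num)

end Cfsg.Lib.Comp.Fi22
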