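import Cfsg.Agent.Lib.Comp.Fi22.Base

set_option maxRecDepth 100000

namespace Cfsg.Lib.Comp.Fi22

universe u

noncomputable def T5_R : List (List ℕ × ℕ) := [([4],1),
 ([5],1),
 ([6],1),
 ([8],1),
 ([4,5],2),
 ([4,6],1),
 ([4,8],2),
 ([5,6],2),
 ([5,8],1),
 ([6,8],1)]

noncomputable def T5_n_4 : Net :=
 (Net.cons 64 (nat_lit 0xf54704c108007030)
 (Net.cons 32 (nat_lit 0x2b17140000000000be6fa8c8)
 (Net.cons 16 (nat_lit 0xc48000002bd80000a780000071dc)
 (Net.cons 8 (nat_lit 0x9000260024002200d4008000440038)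
 (Net.cons 4 (nat_lit 0xe000400000a0806080600040e020c00)
 (Net.cons 2 (nat_lit 0x200222020000020000022002200)
 (Net.cons 1 (nat_lit 0x54005400441145405141004514511401)
 (Net.cons 2 (nat_lit 0x12332033220223032100223013121100)
 (Net.cons 4 (nat_lit 0x4030e0c09050806070c04060909030c)
 (Net.cons 8 (nat_lit 0x2600900024003200790020003e0038)
 (Net.cons 16 (nat_lit 0x3b7f00002bd800001797000071dc)
 (Net.cons 32 (nat_lit 0x2b17140000000000be6fa8c8)
 (Net.cons 64 (nat_lit 0xf54704c108007030)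
 Net.nil)))))))))))))

noncomputable def T5_n_5 : Net :=
 (Net.cons 64 (nat_lit 0x7e1f0e9030c02222)
 (Net.cons 32 (nat_lit 0x3fef6348000000003e461220)
 (Net.cons 16 (nat_lit 0xfcdc000084c400004030000043e0)
 (Net.cons 8 (nat_lit 0x3800000012001c004a00d800040014)
 (Net.cons 4 (nat_lit 0x604020e080e0c000c08040406000608)
 (Net.cons 2 (nat_lit 0x20220000000022002022022220000220)
 (Net.cons 1 (nat_lit 0x45411014045414401544514140410440)
 (Net.cons 2 (nat_lit 0x13111132300311013120033021321223)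
 (Net.cons 4 (nat_lit 0x4000001020f03030e010b0f060b0709)
 (Net.cons 8 (nat_lit 0xfa0056008e000800c0005e00040069)
 (Net.cons 16 (nat_lit 0x805e00009ec40000fffe0000c3e0)
 (Net.cons 32 (nat_lit 0x51d8fa9d000000003e541260)
 (Net.cons 64 (nat_lit 0x7e1f0e9030c02222)
 Net.nil)))))))))))))

noncomputable def T5_n_6 : Net :=
 (Net.cons 64 (nat_lit 0xb730f80d21014204)
 (Net.cons 32 (nat_lit 0x76eb645800000000228d0480)
 (Net.cons 16 (nat_lit 0x6c9000003bd00000298800000b80)
 (Net.cons 8 (nat_lit 0x560088008c007c0010005200ac0084)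
 (Net.cons 4 (nat_lit 0xc0e040c080c06080c04000000080204)
 (Net.cons 2 (nat_lit 0x200200000020002000022000000000)
 (Net.cons 1 (nat_lit 0x41145104154041511045541400404005)
 (Net.cons 2 (nat_lit 0x13223210013133212103201122020323)
 (Net.cons 4 (nat_lit 0x30a090e030f02070c040e0d05090204)
 (Net.cons 8 (nat_lit 0xf200a800850061003000ee00bd0094)
 (Net.cons 16 (nat_lit 0xa930000842d00002bca00000f80)
 (Net.cons 32 (nat_lit 0x73e96c7800000000228d0480)
 (Net.cons 64 (nat_lit 0xb730f80d21014204)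
 Net.nil)))))))))))))

noncomputable def T5_n_8 : Net :=
 (Net.cons 64 (nat_lit 0x1282400084900518)
 (Net.cons 32 (nat_lit 0x92d31a60000000006ee7cb28)
 (Net.cons 16 (nat_lit 0xc40c00008820000034240000da2a)
 (Net.cons 8 (nat_lit 0x68002e00da006a009400f400660058)
 (Net.cons 4 (nat_lit 0x602020a02060c000808080a000e060c)
 (Net.cons 2 (nat_lit 0x2000000000020002002020000200022)
 (Net.cons 1 (nat_lit 0x4101051540111011011510554454014)
 (Net.cons 2 (nat_lit 0x12312130213001012120202322131200)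
 (Net.cons 4 (nat_lit 0xc02000a07060e090a070d080e070205)
 (Net.cons 8 (nat_lit 0x2a002400d2006e009400d20088008c)
 (Net.cons 16 (nat_lit 0xc6fe0000ed7000007cbe000083cd)
 (Net.cons 32 (nat_lit 0x928b0272000000004ef1c960)
 (Net.cons 64 (nat_lit 0x1270028000201a05)
 Net.nil)))))))))))))

noncomputable def T5_n : List Net := [Net.nil,
 Net.nil,
 Net.nil,
 Net.nil,
 T5_n_4,
 T5_n_5,
 T5_n_6,
 Net.nil,
 T5_n_8]

theorem T5_n_ok : NetsOK 128 T5_n := netsOK_of (by decide +kernel)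

theorem T5_n_rel : Rels (gp T5_n) T5_R := rels_of_relsB (k := 7) T5_n_ok (by norm_num) (by decide +kernel)

theorem T5_fin : finB 128 T5_n [4,5,6,8] 120 (runH 128 T5_n (fun x p => ptInv (nth Net.nil T5_n x) p) iv T5_R [] ([].map fun x => [x]) 0 []
  [0,4,8,12,16,20,24,28,32,36,16,20,24,28,32,36]
  (defsH 128 T5_n (ones 1280) [4,5,6,8,4,5,6,8,4,8] (Nat.shiftLeft 1 0) 0)) = true := by decide +kernel

theorem T5_idx : Idx.{u} iv (T5_R ++ []) ([].map fun x => [x]) [4,5,6,8] 120 :=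
  Reach.idx T5_n_ok (reach_runH T5_n_ok (fun x p _ => ptInv_gp T5_n_ok x p) T5_n_rel (reach_defsH T5_n_ok _ _ _ _ _ _) _ _) T5_fin (by norm_num)

end Cfsg.Lib.Comp.Fi22
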