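import Cfsg.Agent.Lib.Known2.DS
import Cfsg.Agent.S0280

/-! The subgroups `2·U₆(2)` and `Ω₇(3)` of `Fi₂₂`. -/

set_option maxRecDepth 100000

namespace Cfsg.Lib.Comp

open Subgroup Cfsg.Lib.Known2

theorem nsdc_of_class {G K : Type*} [Group G] [Group K] [Finite G] {X : Set G}
    (hX : ∀ x ∈ X, ∀ y ∈ X, ∃ g ∈ closure X, g * x * g⁻¹ = y) {γ : ℕ → G} {w : List ℕ} (hw : ∀ x ∈ w, γ x ∈ X)
    (he : w.length % 2 = 0) (h1 : ev γ w ≠ 1) (h2 : ∀ x ∈ X, Commute (ev γ w) x)
    (hc : Nat.card (closure X) ≤ 2 * Nat.card K) (e : QX X ≃* K) :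
    Nat.card (closure X) = 2 * Nat.card K ∧ IsNonsplitDoubleCover (closure X) K := by
  have hw' : ∀ x ∈ w, γ x ∈ closure X := fun x hx => subset_closure (hw x hx)
  have hd := coe_ev_sval hw'
  have hz : ev (sval (closure X) γ) w ∈ center (closure X) :=
    (QuotientGroup.eq_one_iff _).1 (mk_eq_one_iff'.2 (hd ▸ h2))
  have hn : ev (sval (closure X) γ) w ≠ 1 := fun a => h1 (by rw [← hd, a]; rfl)
  have h3 := card_eq_card_quotient_mul_card_subgroup (center (closure X))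
  rw [Nat.card_congr e.toEquiv] at h3
  have hK : 0 < Nat.card K := by have := Finite.of_equiv _ e.toEquiv; exact Nat.card_pos
  have h4 : 1 < Nat.card (center (closure X)) := (one_lt_card_iff_ne_bot _).2 fun a => hn (by rwa [a] at hz)
  have h5 : Nat.card (center (closure X)) = 2 := by nlinarith
  refine ⟨by rw [h3, h5, mul_comm], h5, ⟨e⟩, fun L hL => ?_⟩
  have h6 : L.index = 2 := by rw [hL.index_eq_card, h5]
  have := normal_of_index_eq_two h6
  refine hn (disjoint_def.1 hL.disjoint hz ((ev_mem_iff_even h6 fun x hx a => ?_).2 he))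
  have h7 : L = ⊤ := by
    rw [eq_top_iff, ← closure_closure_coe_preimage, closure_le]
    intro y hy
    obtain ⟨g, hg, h⟩ := hX _ (hw x hx) y hy
    have := this.conj_mem _ a ⟨g, hg⟩
    rwa [show (⟨g, hg⟩ * sval (closure X) γ x * ⟨g, hg⟩⁻¹ : closure X) = y from
      Subtype.ext (by rw [← h, ← coe_sval (hw' x hx)]; rfl)] at this
  rw [h7, index_top] at h6
  omega

namespace Fi22

theorem o7_iso : Nonempty (cl γ22 [2,3,4,5,6,7,8,9] ≃* POmega (ZMod 3) (quadFormOdd 3 (ZMod 3))) := by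
  classical
  obtain ⟨P, hZ, h⟩ := fi22_t22
  have hD := P.cls.2.2
  obtain ⟨γ, s, t, M⟩ := h.exists_fm
  obtain ⟨ε, -, hε⟩ := iso_of_relsC ok hall main.1 (by decide +kernel) h.1 hD hZ M.l22.mem M.l22.rel M.l22.gen .a (by decide)
  obtain ⟨e⟩ := pomega_of_proj (c := 2) (by decide) (C3.proj (M.pf.corr (C3.cc 7) (pt := look T72 12)
    (cd := nth 0 [0,0,1,40,3,120,369,243,768,729]) (L' := [2,3,4,5,6,7,8,9]) (by decide +kernel) (M.pf.SM_sub O2)
      fun p hp => M.pf.mem_SM hp))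
  have h0 : (cl γ [2,3,4,5,6,7,8,9]).map ε.toMonoidHom = cl γ22 [2,3,4,5,6,7,8,9] :=
    map_cl_of_gen fun x hx => hε x (by revert x; decide)
  have h1 := (T1_ord _ γ22 ok.ivOK ((ok.rels hall).mono (by decide +kernel))).2
  rw [← h0, card_map_of_injective ε.injective] at h1
  have h2 : closure (SM s 3510 O2) ≤ cl γ [2,3,4,5,6,7,8,9] := (closure_le _).2 (by
    rintro _ ⟨p, hp, rfl⟩
    obtain ⟨-, k, hk, e⟩ := M.pf.orb_conj (L' := [2,3,4,5,6,7,8,9]) (by decide +kernel) hp.2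
    exact e ▸ mul_mem (mul_mem hk (mem_cl (by decide))) (inv_mem hk))
  have h3 := Nat.card_le_card_of_surjective _ (QuotientGroup.mk'_surjective (center (closure (SM s 3510 O2))))
  have h4 := (Nat.card_congr e.toEquiv).trans card_o7
  have h5 := eq_of_le_of_card_ge h2 (h1.trans (h4.ge.trans h3))
  rw [← h0, ← h5]
  exact ⟨(ε.subgroupMap _).symm.trans ((MulEquiv.ofBijective (QuotientGroup.mk' _) ((Nat.bijective_iff_surjective_and_card _).2
    ⟨QuotientGroup.mk'_surjective _, le_antisymm (h4 ▸ (card_le_of_le h2).trans h1) h3⟩)).trans e)⟩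

def UW : List (List ℕ) := [[1], [3], [4], [5], [6], [7], [8], [9], [1,2,3,4,5,8,1,2,3,4,5,8,1,2,3,4,5,8,1,2,3,4,5,8,1,2,3,4,5,8]]

theorem u6_cover : clw γ22 UW = centralizer {γ22 1} ∧ Nat.card (conjugatesOf (γ22 1)) = 3510 ∧
    ∃ (F : Type) (_ : Field F) (_ : Fintype F), Fintype.card F = 4 ∧
      IsNonsplitDoubleCover (centralizer {γ22 1}) (PSU 6 F 2) := by
  obtain ⟨P, hZ, h⟩ := fi22_t22
  obtain ⟨e, he⟩ := equiv
  obtain ⟨f, hi, -, hf⟩ := faith_of_equiv e
  replace hf : ∀ x ∈ L, f (γ22 x) = gp nets x := fun x hx => (hf _).trans (he x hx)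
  obtain ⟨h1, h2, -⟩ := stab_of_idx (U_idx.of_cons (cons_of_subset (R := R) (by decide +kernel))) ok.ivOK
    (ok.rels hall) (ok.top hall) nets_ok hf U_act
  have eq : ∀ {u w : List ℕ} {e : ℕ}, _ → ev γ22 u ^ (e + 1) = ev γ22 w := eq_of_faith (k := 12) hi nets_ok (by norm_num) hf
  have tb := tbA_pt nets_ok
  have hY : Nat.card (conjugatesOf (γ22 1)) = 3510 := h.ncard
  have hI := (card_conjugatesOf _).symm.trans hY
  have cm : ∀ w ∈ UW, Commute (γ22 1) (ev γ22 w) := fun w hw => by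
    rw [← ev_single γ22 1]
    exact commute_of_rel (eq (e := 0) (by revert w; decide +kernel))
  have hK : clw γ22 UW = centralizer {γ22 1} := by
    have a1 : clw γ22 UW ≤ centralizer {γ22 1} := clw_le.2 fun w hw => mem_centralizer_singleton_iff.2 (cm w hw).symm
    have a2 : (clw γ22 UW).index = 3510 := (congrArg index h2).trans h1.index
    have a3 := (clw γ22 UW).index_mul_card.trans (centralizer {γ22 1}).index_mul_card.symm
    rw [a2, hI] at a3
    exact eq_of_le_of_card_ge a1 (by omega)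
  obtain ⟨F, _, _, hF, ⟨ε⟩⟩ := (h.2 _ mem_conjugatesOf_self).psu
  refine ⟨hK, hY, F, inferInstance, inferInstance, hF, ?_⟩
  have hU : Nat.card (PSU 6 F 2) = 9196830720 := by
    have := Cfsg.Agent.S0280.result (F := F) (q := 2) hF 6 (by norm_num)
    simp only [Finset.prod_range_succ, Finset.prod_range_zero] at this
    norm_num [Nat.even_iff] at this
    omega
  have hC : Nat.card (centralizer {γ22 1}) = 2 * Nat.card (PSU 6 F 2) := by
    have := (centralizer {γ22 1}).index_mul_card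
    rw [hI, main.2] at this
    omega
  have hle : closure (Dd (conjugatesOf (γ22 1)) (γ22 1)) ≤ centralizer {γ22 1} :=
    (closure_le _).2 fun y hy => mem_centralizer_singleton_iff.2 hy.2.2.symm
  let W : ℕ → List ℕ := fun x => cnd (Nat.beq x 0) (pw [1,2,3,4,5,8] 4) [x]
  have hw : ev (fun x => ev γ22 (W x)) (pw [0,5,4,8,3,9] 4) = γ22 1 := by
    have := eq (u := apd (pw [1,2,3,4,5,8] 4) [5,4,8,3,9]) (e := 4) (w := [1]) (by decide +kernel)
    rw [ev_single] at this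
    rw [ev_pw, ← this, apd_eq, ev_append]
    simp only [ev_cons, ev_nil, mul_one, W]
    rfl
  obtain ⟨c1, c2⟩ := nsdc_of_class (h.1.tdd _ mem_conjugatesOf_self) (γ := fun x => ev γ22 (W x)) (w := pw [0,5,4,8,3,9] 4)
    (fun x hx => by
      replace hx : x ∈ [0,3,4,5,8,9] := by revert x; decide +kernel
      let v := cnd (Nat.beq x 0) [6,5,4,8,3,4,5,2,3,4,8,6,5,4,3,2] (nth [] [[],[],[1,2],[2,3,1,2],[3,4,2,3,1,2],
        [4,5,3,4,2,3,1,2],[5,6,4,5,3,4,2,3,1,2],[6,7,5,6,4,5,3,4,2,3,1,2],[4,8,3,4,2,3,1,2],[8,9,4,8,3,4,2,3,1,2]] x)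
      refine ⟨isConj_iff.2 ⟨ev γ22 v, ?_⟩, ?_, cm _ (by revert x; decide +kernel)⟩
      · rw [mul_inv_eq_iff_eq_mul, ← ev_single γ22 1, ← ev_append, ← ev_append, ← apd_eq, ← apd_eq]
        exact (pow_one _).symm.trans (eq (by revert x; decide +kernel))
      · rw [← ev_single γ22 1]
        exact ne_of_neP hf tb (p := 1) (by revert x; decide +kernel))
    (by decide +kernel) (hw ▸ P.tt.ne_one mem_conjugatesOf_self) (hw ▸ fun y hy => hy.2.2) (hC ▸ card_le_of_le hle) ε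
  rwa [eq_of_le_of_card_ge hle (hC.trans c1.symm).le] at c2

end Fi22

end Cfsg.Lib.Comp
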